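import Cfsg.Agent.MinSimple.CaseDThree
import Cfsg.Agent.MinSimple.SecRep

/-!
# Case (d) of (E1), (5b): the action of `κ` on `D / Z`

`KX S P₂ V a x y k`: the `L`-structure `LX` for `x` (of order 3), `k = [x, y]` of order 3 commuting with
`x`, `y` and, modulo `O₂(P₂)`, with `a`.

`KX.main`: `k` normalises `D = V ⊓ O₂(P₂)` and acts fixed-point-freely on `D / Z`.
-/

set_option autoImplicit false

namespace Cfsg.Agent.MinSimple.CaseD.KappaAct

open Subgroup Cfsg Cfsg.Agent.ZN Cfsg.Agent.MinSimple.CaseDDefs Cfsg.Agent.MinSimple.CaseDThree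
open Cfsg.Agent.MinSimple.VModule Cfsg.Agent.MinSimple.SecRep

universe u

variable {G : Type u} [Group G]

/-- The data for `κ = [x, y]`. -/
structure KX (S P₂ V : Subgroup G) (a x y k : G) : Prop where
  lx : LX (o2 P₂) V (V ⊓ o2 P₂) (zc S) ((V ⊓ o2 P₂).map (MulAut.conj x).toMonoidHom)
    (V.map (MulAut.conj x).toMonoidHom) a x 3
  xP : x ∈ P₂
  yP : y ∈ P₂
  k_eq : k = x * y * x⁻¹ * y⁻¹
  kx : k * x = x * k
  ky : k * y = y * k
  x3 : x ^ 3 = 1
  k3 : k ^ 3 = 1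
  kQ : k ∉ o2 P₂
  ak : a * k * a⁻¹ * k⁻¹ ∈ o2 P₂

theorem eq_one_of_sq_cube {H : Type*} [Group H] {g : H} (h2 : g ^ 2 = 1) (h3 : g ^ 3 = 1) : g = 1 := by
  have : g = g ^ 3 * (g ^ 2)⁻¹ := by group
  rw [this, h2, h3]; simp

/-- The commutator of an element of order 3 with a 2-element which it centralises. -/
theorem cube_cent {k q c : G} (k3 : k ^ 3 = 1) (hc : k * q * k⁻¹ = c * q) (hkc : k * c = c * k)
    {n : ℕ} (hn : c ^ 2 ^ n = 1) : c = 1 := by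
  have h1 : k * k * q * (k * k)⁻¹ = c * c * q := by
    calc k * k * q * (k * k)⁻¹ = k * (k * q * k⁻¹) * k⁻¹ := by group
      _ = (k * c) * q * k⁻¹ := by rw [hc]; group
      _ = c * (k * q * k⁻¹) := by rw [hkc]; group
      _ = c * c * q := by rw [hc]; group
  have h2 : k * (k * k) * q * (k * (k * k))⁻¹ = c * c * c * q := by
    calc k * (k * k) * q * (k * (k * k))⁻¹ = k * (k * k * q * (k * k)⁻¹) * k⁻¹ := by group
      _ = (k * c) * c * q * k⁻¹ := by rw [h1]; group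
      _ = (c * k) * c * q * k⁻¹ := by rw [hkc]
      _ = c * (k * c) * q * k⁻¹ := by group
      _ = c * (c * k) * q * k⁻¹ := by rw [hkc]
      _ = c * c * (k * q * k⁻¹) := by group
      _ = c * c * c * q := by rw [hc]; group
  have e3 : k * (k * k) = 1 := by rw [← k3, pow_succ, pow_two, mul_assoc]
  rw [e3] at h2
  have h3 : c ^ 3 = 1 := by
    have h4 : q = c * c * c * q := by simpa using h2
    have h5 := mul_eq_right.1 h4.symm
    rw [← h5, pow_succ, pow_two]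
  have hcop : Nat.Coprime (2 ^ n) 3 := Nat.Coprime.pow_left n (by norm_num)
  have h4 : orderOf c ∣ Nat.gcd (2 ^ n) 3 :=
    Nat.dvd_gcd (orderOf_dvd_of_pow_eq_one hn) (orderOf_dvd_of_pow_eq_one h3)
  rw [hcop.gcd_eq_one, Nat.dvd_one, orderOf_eq_one_iff] at h4
  exact h4

section KX

variable {S P P₂ V : Subgroup G} {a x y k : G}

theorem zc_cent (h : CaseDDefs.Ctx S P P₂ V) {g z : G} (hg : g ∈ P₂) (hz : z ∈ zc S) : g * z = z * g :=
  (mem_centralizer_iff.1 (h.Z₂ hg) z hz).symm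

theorem Q_conj {g q : G} (hg : g ∈ P₂) (hq : q ∈ o2 P₂) : g * q * g⁻¹ ∈ o2 P₂ :=
  (mem_normalizer_iff.1 (le_normalizer_o2 P₂ hg) q).1 hq

theorem VP (h : CaseDDefs.Ctx S P P₂ V) : V ≤ P₂ := h.VS.trans h.SP₂

theorem LP (h : CaseDDefs.Ctx S P P₂ V) (hx : x ∈ P₂) : V ⊔ V.map (MulAut.conj x).toMonoidHom ≤ P₂ := by
  refine sup_le (VP h) ?_
  rintro _ ⟨v, hv, rfl⟩
  exact mul_mem (mul_mem hx (VP h hv)) (inv_mem hx)

/-- `F`. -/
def FF (P₂ V : Subgroup G) (x : G) : Subgroup G :=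
  (V ⊓ o2 P₂) ⊔ (V ⊓ o2 P₂).map (MulAut.conj x).toMonoidHom

theorem FF_le_Q (hx : x ∈ P₂) : FF P₂ V x ≤ o2 P₂ := by
  refine sup_le inf_le_right ?_
  rintro _ ⟨v, hv, rfl⟩
  exact Q_conj hx hv.2

/-- The commutator of `q ∈ Q` and `l ∈ L`. -/
theorem KX.ql (K : KX S P₂ V a x y k) {q l : G} (hq : q ∈ o2 P₂)
    (hl : l ∈ V ⊔ V.map (MulAut.conj x).toMonoidHom) : q * l * q⁻¹ * l⁻¹ ∈ FF P₂ V x :=
  K.lx.QL q hq l hl

theorem KX.lq (K : KX S P₂ V a x y k) {q l : G} (hq : q ∈ o2 P₂)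
    (hl : l ∈ V ⊔ V.map (MulAut.conj x).toMonoidHom) : l * q * l⁻¹ * q⁻¹ ∈ FF P₂ V x := by
  have h1 := inv_mem (K.ql hq hl)
  have e : (q * l * q⁻¹ * l⁻¹)⁻¹ = l * q * l⁻¹ * q⁻¹ := by group
  rwa [e] at h1

theorem KX.Q_norm (K : KX S P₂ V a x y k) {q f : G} (hq : q ∈ o2 P₂) (hf : f ∈ FF P₂ V x) :
    q * f * q⁻¹ ∈ FF P₂ V x := by
  have h1 := K.ql hq (K.lx.F_le hf)
  have e : q * f * q⁻¹ = (q * f * q⁻¹ * f⁻¹) * f := by group
  rw [e]
  exact mul_mem h1 hf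

theorem KX.L_norm (K : KX S P₂ V a x y k) {l f : G}
    (hl : l ∈ V ⊔ V.map (MulAut.conj x).toMonoidHom) (hf : f ∈ FF P₂ V x) : l * f * l⁻¹ ∈ FF P₂ V x :=
  K.lx.F_normal hl hf

theorem KX.x_norm (K : KX S P₂ V a x y k) {f : G} (hf : f ∈ FF P₂ V x) : x * f * x⁻¹ ∈ FF P₂ V x :=
  K.L_norm K.lx.xL hf

theorem KX.comm_F (K : KX S P₂ V a x y k) {f g : G} (hf : f ∈ FF P₂ V x) (hg : g ∈ FF P₂ V x) :
    f * g * f⁻¹ * g⁻¹ ∈ zc S := (K.lx.F_le_cz hg hf).2

/-- `C = N(F) ∩ C(Z)`. -/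
def CC (S P₂ V : Subgroup G) (x : G) : Subgroup G :=
  normalizer (FF P₂ V x : Set G) ⊓ centralizer (zc S : Set G)

theorem mem_CC [Finite G] (h : CaseDDefs.Ctx S P P₂ V) {g : G} (hg : g ∈ P₂)
    (hF : ∀ f ∈ FF P₂ V x, g * f * g⁻¹ ∈ FF P₂ V x) : g ∈ CC S P₂ V x := by
  refine ⟨mem_normalizer_of_map_le ?_, h.Z₂ hg⟩
  rintro _ ⟨f, hf, rfl⟩
  exact hF f hf

theorem KX.exists_sec [Finite G] (h : CaseDDefs.Ctx S P P₂ V) (K : KX S P₂ V a x y k) :
    ∃ (M X : Type u) (_ : AddCommGroup M) (_ : Group X) (_ : DistribMulAction X M),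
      Nonempty (Sec (CC S P₂ V x) (FF P₂ V x) (zc S) M X) := by
  refine SecRep.exists_sec ?_ inf_le_left K.lx.Z_le_F ?_ fun a ha b hb => K.comm_F ha hb
  · intro f hf
    exact mem_CC h (o2_le P₂ (FF_le_Q K.xP hf)) fun g hg => K.Q_norm (FF_le_Q K.xP hf) hg
  · intro g hg
    rw [mem_normalizer_iff]
    intro z
    have hg2 := hg.2
    constructor
    · intro hz
      rw [← mem_centralizer_iff.1 hg2 z hz, mul_inv_cancel_right]
      exact hz
    · intro hz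
      have h1 := mem_centralizer_iff.1 (inv_mem hg2) _ hz
      have e : z = g⁻¹ * (g * z * g⁻¹) * g := by group
      rw [e, ← h1]
      simpa using hz

theorem KX.surj [Finite G] (h : CaseDDefs.Ctx S P P₂ V) (K : KX S P₂ V a x y k) {f : G}
    (hf : f ∈ FF P₂ V x) : ∃ f' ∈ FF P₂ V x, ∃ z ∈ zc S, f = z * (x * f' * x⁻¹ * f'⁻¹) := by
  obtain ⟨M, X, _, _, _, ⟨T⟩⟩ := K.exists_sec h
  have hxC : x ∈ CC S P₂ V x := mem_CC h K.xP fun f hf => K.x_norm hf
  have _ := T.finite_left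
  have hinj : Function.Injective (fun m : M => T.rho x • m - m) := by
    have hz : ∀ m : M, T.rho x • m - m = 0 → m = 0 := by
      intro m hm
      obtain ⟨w, hw, rfl⟩ := T.pi_surj m
      rw [sub_eq_zero, T.smul_pi x hxC w hw, T.pi_eq_iff (T.conj_mem hxC hw) hw] at hm
      rw [T.pi_eq_zero w hw]
      exact K.lx.fpf hw hm
    intro m n hmn
    have h1 : T.rho x • (m - n) - (m - n) = 0 := by
      rw [smul_sub]
      have h2 : T.rho x • m - m = T.rho x • n - n := hmn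
      rw [sub_sub_sub_comm, h2, sub_self]
    exact sub_eq_zero.1 (hz _ h1)
  obtain ⟨m, hm⟩ := (Finite.injective_iff_surjective.1 hinj) (T.pi f)
  obtain ⟨f', hf', rfl⟩ := T.pi_surj m
  have hm' : T.rho x • T.pi f' - T.pi f' = T.pi f := hm
  refine ⟨f', hf', f * (x * f' * x⁻¹ * f'⁻¹)⁻¹, ?_, by group⟩
  have h1 : x * f' * x⁻¹ ∈ FF P₂ V x := T.conj_mem hxC hf'
  rw [← T.pi_eq_iff hf (mul_mem h1 (inv_mem hf')), T.pi_mul _ h1 _ (inv_mem hf'), T.pi_inv hf', ← hm',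
    T.smul_pi x hxC f' hf', sub_eq_add_neg]

/-- `k` normalises `F`. -/
theorem KX.kP (K : KX S P₂ V a x y k) : k ∈ P₂ := by
  rw [K.k_eq]
  exact mul_mem (mul_mem (mul_mem K.xP K.yP) (inv_mem K.xP)) (inv_mem K.yP)

theorem KX.k_norm [Finite G] (h : CaseDDefs.Ctx S P P₂ V) (K : KX S P₂ V a x y k) {f : G}
    (hf : f ∈ FF P₂ V x) : k * f * k⁻¹ ∈ FF P₂ V x := by
  obtain ⟨f', hf', z, hz, rfl⟩ := K.surj h hf
  have h1 : k * f' * k⁻¹ ∈ o2 P₂ := Q_conj K.kP (FF_le_Q K.xP hf')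
  have h2 := K.lq h1 K.lx.xL
  have h3 := zc_cent h K.kP hz
  have e : k * (z * (x * f' * x⁻¹ * f'⁻¹)) * k⁻¹ = z * (x * (k * f' * k⁻¹) * x⁻¹ * (k * f' * k⁻¹)⁻¹) := by
    calc k * (z * (x * f' * x⁻¹ * f'⁻¹)) * k⁻¹
        = (k * z) * ((x * f' * x⁻¹) * f'⁻¹) * k⁻¹ := by group
      _ = z * ((k * x) * f' * (k * x)⁻¹ * (k * f' * k⁻¹)⁻¹) := by rw [h3]; group
      _ = _ := by rw [K.kx]; group
  rw [e]
  exact mul_mem (K.lx.Z_le_F hz) h2

/-- **(b1)** `k` acts nontrivially on `F / Z`. -/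
theorem KX.not_triv [Finite G] (h : CaseDDefs.Ctx S P P₂ V) (K : KX S P₂ V a x y k) :
    ¬ ∀ f ∈ FF P₂ V x, k * f * k⁻¹ * f⁻¹ ∈ zc S := by
  intro htr
  -- `k` centralises `F`
  have hkF : ∀ f ∈ FF P₂ V x, k * f = f * k := by
    intro f hf
    have h1 := htr f hf
    have h2 : k * f * k⁻¹ * f⁻¹ = 1 := by
      refine cube_cent (q := f) (n := 1) K.k3 (by group) (zc_cent h K.kP h1) ?_
      rw [pow_one]; exact zc_sq S _ h1
    have h3 : k * f = (k * f * k⁻¹ * f⁻¹) * (f * k) := by group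
    rw [h3, h2, one_mul]
  apply K.kQ
  refine h.char ⟨K.kP, mem_centralizer_iff.2 fun q hq => ?_⟩
  -- `y x⁻¹ y⁻¹ q (y x⁻¹ y⁻¹)⁻¹ = f' q`
  obtain ⟨f₁, hf₁⟩ : ∃ f₁, f₁ = x⁻¹ * (y⁻¹ * q * y) * x⁻¹⁻¹ * (y⁻¹ * q * y)⁻¹ := ⟨_, rfl⟩
  have hqy : y⁻¹ * q * y ∈ o2 P₂ := by
    have := Q_conj (inv_mem K.yP) hq
    simpa using this
  have hf₁F : f₁ ∈ FF P₂ V x := hf₁ ▸ K.lq hqy (inv_mem K.lx.xL)
  obtain ⟨f₂, hf₂⟩ : ∃ f₂, f₂ = x * q * x⁻¹ * q⁻¹ := ⟨_, rfl⟩
  have hf₂F : f₂ ∈ FF P₂ V x := hf₂ ▸ K.lq hq K.lx.xL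
  obtain ⟨c, hc⟩ : ∃ c, c = x * (y * f₁ * y⁻¹) * x⁻¹ * f₂ := ⟨_, rfl⟩
  have hkq : k * q * k⁻¹ = c * q := by
    rw [hc, hf₂, hf₁, K.k_eq]; group
  have hkc : k * c = c * k := by
    have c1 : Commute k x := K.kx
    have c2 : Commute k y := K.ky
    have c3 : Commute k f₁ := hkF f₁ hf₁F
    have c4 : Commute k f₂ := hkF f₂ hf₂F
    have : Commute k c := by
      rw [hc]
      exact (((c1.mul_right ((c2.mul_right c3).mul_right c2.inv_right)).mul_right c1.inv_right).mul_right c4)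
    exact this
  have hcQ : c ∈ o2 P₂ := by
    have e : c = k * q * k⁻¹ * q⁻¹ := by rw [hkq]; group
    rw [e]
    exact mul_mem (Q_conj K.kP hq) (inv_mem hq)
  obtain ⟨n, hn⟩ := (o2_isPGroup P₂) ⟨c, hcQ⟩
  have hn' : c ^ 2 ^ n = 1 := congrArg Subtype.val hn
  have hc1 := cube_cent K.k3 hkq hkc hn'
  rw [hc1, one_mul] at hkq
  have h3 : k * q = q * k := by
    calc k * q = (k * q * k⁻¹) * k := by group
      _ = q * k := by rw [hkq]
  exact h3.symm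

/-! ### The action on `M = F / Z` -/

theorem KX.aP (h : CaseDDefs.Ctx S P P₂ V) (K : KX S P₂ V a x y k) : a ∈ P₂ := VP h K.lx.aV

theorem KX.aL (K : KX S P₂ V a x y k) : a ∈ V ⊔ V.map (MulAut.conj x).toMonoidHom :=
  mem_sup_left K.lx.aV

theorem KX.xC [Finite G] (h : CaseDDefs.Ctx S P P₂ V) (K : KX S P₂ V a x y k) : x ∈ CC S P₂ V x :=
  mem_CC h K.xP fun _ hf => K.x_norm hf

theorem KX.kC [Finite G] (h : CaseDDefs.Ctx S P P₂ V) (K : KX S P₂ V a x y k) : k ∈ CC S P₂ V x :=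
  mem_CC h K.kP fun _ hf => K.k_norm h hf

theorem KX.aC [Finite G] (h : CaseDDefs.Ctx S P P₂ V) (K : KX S P₂ V a x y k) : a ∈ CC S P₂ V x :=
  mem_CC h (K.aP h) fun _ hf => K.L_norm K.aL hf

theorem KX.QC [Finite G] (h : CaseDDefs.Ctx S P P₂ V) (K : KX S P₂ V a x y k) :
    o2 P₂ ≤ CC S P₂ V x :=
  fun _ hq => mem_CC h (o2_le P₂ hq) fun _ hf => K.Q_norm hq hf

theorem KX.VC [Finite G] (h : CaseDDefs.Ctx S P P₂ V) (K : KX S P₂ V a x y k) :
    V ≤ CC S P₂ V x :=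
  fun _ hv => mem_CC h (VP h hv) fun _ hf => K.L_norm (mem_sup_left hv) hf

variable {M X : Type u} [AddCommGroup M] [Group X] [DistribMulAction X M]

/-- `F` acts trivially. -/
theorem KX.rho_F [Finite G] (h : CaseDDefs.Ctx S P P₂ V) (K : KX S P₂ V a x y k)
    (T : Sec (CC S P₂ V x) (FF P₂ V x) (zc S) M X) {f : G} (hf : f ∈ FF P₂ V x) : T.rho f = 1 :=
  (T.rho_eq_one_iff (K.QC h (FF_le_Q K.xP hf))).2 fun _ hw => K.comm_F hf hw

/-- elements whose commutator lies in `F` commute on `M`. -/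
theorem KX.rho_comm [Finite G] (h : CaseDDefs.Ctx S P P₂ V) (K : KX S P₂ V a x y k)
    (T : Sec (CC S P₂ V x) (FF P₂ V x) (zc S) M X) {g l : G} (hg : g ∈ CC S P₂ V x)
    (hl : l ∈ CC S P₂ V x) (hgl : g * l * g⁻¹ * l⁻¹ ∈ FF P₂ V x) :
    T.rho g * T.rho l = T.rho l * T.rho g := by
  have h1 := K.rho_F h T hgl
  rw [T.rho_mul _ (mul_mem (mul_mem hg hl) (inv_mem hg)) _ (inv_mem hl), T.rho_conj hg hl,
    T.rho_inv hl] at h1
  have h2 := mul_inv_eq_one.1 h1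
  exact mul_inv_eq_iff_eq_mul.1 h2

theorem KX.two (K : KX S P₂ V a x y k) (T : Sec (CC S P₂ V x) (FF P₂ V x) (zc S) M X) (m : M) :
    m + m = 0 := by
  obtain ⟨w, hw, rfl⟩ := T.pi_surj m
  rw [← T.pi_mul w hw w hw, T.pi_eq_zero _ (mul_mem hw hw)]
  exact K.lx.sq hw

/-- `C_M(a) = pi(D)`. -/
theorem KX.fix_a [Finite G] (h : CaseDDefs.Ctx S P P₂ V) (K : KX S P₂ V a x y k)
    (T : Sec (CC S P₂ V x) (FF P₂ V x) (zc S) M X) (m : M) :
    T.rho a • m = m ↔ ∃ d ∈ V ⊓ o2 P₂, T.pi d = m := by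
  have haC := K.aC h
  have hD : ∀ d ∈ V ⊓ o2 P₂, T.rho a • T.pi d = T.pi d := by
    intro d hd
    have hdF : d ∈ FF P₂ V x := mem_sup_left hd
    rw [T.smul_pi a haC d hdF]
    congr 1
    rw [K.lx.ld.Vcomm a K.lx.aV d hd.1, mul_inv_cancel_right]
  constructor
  · intro hm
    obtain ⟨w, hw, rfl⟩ := T.pi_surj m
    obtain ⟨d, hd, e, he, rfl⟩ := K.lx.mul_eq hw
    have hdF : d ∈ FF P₂ V x := mem_sup_left hd
    have heF : e ∈ FF P₂ V x := mem_sup_right he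
    rw [T.pi_mul d hdF e heF, smul_add, hD d hd] at hm
    have h1 := add_left_cancel hm
    rw [T.smul_pi a haC e heF, T.pi_eq_iff (T.conj_mem haC heF) heF] at h1
    have h2 : e ∈ zc S := K.lx.ld.inj a K.lx.aV K.lx.aD e he h1
    refine ⟨d, hd, ?_⟩
    rw [T.pi_mul d hdF e heF, (T.pi_eq_zero e heF).2 h2, add_zero]
  · rintro ⟨d, hd, rfl⟩
    exact hD d hd

theorem KX.card_fix [Finite G] (h : CaseDDefs.Ctx S P P₂ V) (K : KX S P₂ V a x y k)
    (T : Sec (CC S P₂ V x) (FF P₂ V x) (zc S) M X) :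
    {m : M | T.rho a • m = m}.ncard = 4 := by
  have hDF : V ⊓ o2 P₂ ≤ FF P₂ V x := le_sup_left
  let φ : (V ⊓ o2 P₂ : Subgroup G) →* Multiplicative M :=
    { toFun := fun d => Multiplicative.ofAdd (T.pi d)
      map_one' := by
        change Multiplicative.ofAdd (T.pi 1) = 1
        rw [T.pi_one]; rfl
      map_mul' := fun d e => by
        change Multiplicative.ofAdd (T.pi ((d : G) * e)) = _
        rw [T.pi_mul d (hDF d.2) e (hDF e.2)]; rfl }
  have hker : φ.ker = (zc S).subgroupOf (V ⊓ o2 P₂) := by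
    ext d
    rw [MonoidHom.mem_ker, mem_subgroupOf, ← T.pi_eq_zero d (hDF d.2)]
    rfl
  have h1 : Nat.card φ.range = 4 := by
    rw [← index_ker, hker]
    change (zc S).relIndex (V ⊓ o2 P₂) = 4
    have h2 := relIndex_mul_relIndex ⊥ _ _ bot_le K.lx.ld.Z₀_le
    rw [relIndex_bot_left, relIndex_bot_left, K.lx.cardZ, K.lx.cardD] at h2
    omega
  rw [← h1]
  have h2 : {m : M | T.rho a • m = m} = (Multiplicative.toAdd : Multiplicative M → M) '' (φ.range : Set _) := by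
    ext m
    rw [Set.mem_ofPred_eq, K.fix_a h T]
    constructor
    · rintro ⟨d, hd, rfl⟩
      exact ⟨_, ⟨⟨d, hd⟩, rfl⟩, rfl⟩
    · rintro ⟨_, ⟨d, rfl⟩, rfl⟩
      exact ⟨d, d.2, rfl⟩
  rw [h2, Set.ncard_image_of_injective _ Multiplicative.toAdd.injective, ← Nat.card_coe_set_eq]
  rfl

/-- the common fixed point `e` of `Q` and `a`, and the elements of `C_M(a)`. -/
theorem KX.exists_en [Finite G] (h : CaseDDefs.Ctx S P P₂ V) (K : KX S P₂ V a x y k)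
    (T : Sec (CC S P₂ V x) (FF P₂ V x) (zc S) M X) :
    ∃ e : M, e ≠ 0 ∧ T.rho a • e = e ∧ (∀ q ∈ o2 P₂, T.rho q • e = e) := by
  have hf : Fact (Nat.Prime 2) := ⟨Nat.prime_two⟩
  have hfM : Finite M := T.finite_left
  have hT0 : o2 P₂ ⊔ V ≤ CC S P₂ V x := sup_le (K.QC h) (K.VC h)
  have hS : o2 P₂ ⊔ V ≤ S := sup_le (o2_le_of_sylow h.S2 h.sylP₂) h.VS
  have hP : IsPGroup 2 (T.img (o2 P₂ ⊔ V)) := by
    have h1 : IsPGroup 2 (o2 P₂ ⊔ V : Subgroup G) := h.S2.to_le hS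
    have h2 : IsPGroup 2 ((o2 P₂ ⊔ V).subgroupOf (CC S P₂ V x)) :=
      h1.comap_of_injective _ (CC S P₂ V x).subtype_injective
    exact h2.map _
  have hdvd : 2 ∣ Nat.card M := by
    obtain ⟨m, hm⟩ : ∃ m : M, m ≠ 0 := by
      by_contra hcon
      push Not at hcon
      have h1 := K.card_fix h T
      have h2 : {m : M | T.rho a • m = m} ⊆ {0} := fun m _ => hcon m
      have h3 := Set.ncard_le_ncard h2
      rw [Set.ncard_singleton] at h3
      omega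
    have h2 : addOrderOf m ∣ 2 := addOrderOf_dvd_of_nsmul_eq_zero (by rw [two_nsmul]; exact K.two T m)
    have h3 : addOrderOf m = 2 := by
      rcases (Nat.dvd_prime Nat.prime_two).1 h2 with h4 | h4
      · exact absurd (AddMonoid.addOrderOf_eq_one_iff.1 h4) hm
      · exact h4
    rw [← h3]
    exact addOrderOf_dvd_natCard m
  have h0 : (0 : M) ∈ MulAction.fixedPoints (T.img (o2 P₂ ⊔ V)) M := fun g => smul_zero g
  obtain ⟨e, he, hne⟩ := hP.exists_fixed_point_of_prime_dvd_card_of_fixed_point M hdvd h0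
  have hall : ∀ g ∈ o2 P₂ ⊔ V, T.rho g • e = e := fun g hg =>
    he ⟨T.rho g, T.rho_mem_img hT0 hg⟩
  exact ⟨e, hne.symm, hall a (mem_sup_right K.lx.aV), fun q hq => hall q (mem_sup_left hq)⟩

/-- If `{0, e} ⊆ C_M(a)` then every other element `n` of `C_M(a)` gives `C_M(a) = {0, e, n, e + n}`. -/
theorem KX.fix_cases [Finite G] (h : CaseDDefs.Ctx S P P₂ V) (K : KX S P₂ V a x y k)
    (T : Sec (CC S P₂ V x) (FF P₂ V x) (zc S) M X) {e n : M} (he : e ≠ 0) (hn : n ≠ 0) (hen : n ≠ e)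
    (hae : T.rho a • e = e) (han : T.rho a • n = n) {m : M} (ham : T.rho a • m = m) :
    m = 0 ∨ m = e ∨ m = n ∨ m = e + n := by
  have hfM : Finite M := T.finite_left
  have hsub : ({0, e, n, e + n} : Set M) ⊆ {m : M | T.rho a • m = m} := by
    intro m hm
    simp only [Set.mem_insert_iff, Set.mem_singleton_iff] at hm
    rcases hm with rfl | rfl | rfl | rfl
    · exact smul_zero _
    · exact hae
    · exact han
    · change T.rho a • (e + n) = e + n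
      rw [smul_add, hae, han]
  have h1 : ({0, e, n, e + n} : Set M).ncard = 4 := by
    have e1 : e + n ≠ n := fun h => he (by simpa using h)
    have e2 : e + n ≠ e := fun h => hn (by simpa using h)
    have e3 : e + n ≠ 0 := fun h => hen (by
      have h2 := K.two T e
      exact (add_left_cancel (h2.trans h.symm)).symm)
    rw [Set.ncard_insert_of_notMem, Set.ncard_insert_of_notMem, Set.ncard_pair e1.symm]
    · simp only [Set.mem_insert_iff, Set.mem_singleton_iff, not_or]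
      exact ⟨hen.symm, e2.symm⟩
    · simp only [Set.mem_insert_iff, Set.mem_singleton_iff, not_or]
      exact ⟨he.symm, hn.symm, e3.symm⟩
  have h2 := Set.eq_of_subset_of_ncard_le hsub (by rw [h1, K.card_fix h T])
  have h3 : m ∈ ({0, e, n, e + n} : Set M) := h2 ▸ ham
  simpa only [Set.mem_insert_iff, Set.mem_singleton_iff] using h3

/-- An element of `X` commuting with `x` and `a` on `M` is determined by its values on `C_M(a)`. -/
theorem KX.eq_one [Finite G] (h : CaseDDefs.Ctx S P P₂ V) (K : KX S P₂ V a x y k)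
    (T : Sec (CC S P₂ V x) (FF P₂ V x) (zc S) M X) {g : X} (hgx : g * T.rho x = T.rho x * g)
    (hg : ∀ m : M, T.rho a • m = m → g • m = m) : g = 1 := by
  apply T.faithful
  intro m
  obtain ⟨w, hw, rfl⟩ := T.pi_surj m
  obtain ⟨d, hd, e, he, rfl⟩ := K.lx.mul_eq hw
  have hdF : d ∈ FF P₂ V x := mem_sup_left hd
  have heF : e ∈ FF P₂ V x := mem_sup_right he
  obtain ⟨d', hd', rfl⟩ := he
  have hd'F : d' ∈ FF P₂ V x := mem_sup_left hd'
  have e1 : T.pi ((MulAut.conj x).toMonoidHom d') = T.rho x • T.pi d' := (T.smul_pi x (K.xC h) d' hd'F).symm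
  rw [T.pi_mul d hdF _ heF, e1, smul_add, ← mul_smul, hgx, mul_smul,
    hg _ ((K.fix_a h T _).2 ⟨d, hd, rfl⟩), hg _ ((K.fix_a h T _).2 ⟨d', hd', rfl⟩)]

/-- An element of order dividing 3 preserving `C_M(a)` with a nonzero fixed point in it is trivial on
`C_M(a)`. -/
theorem KX.three_triv [Finite G] (h : CaseDDefs.Ctx S P P₂ V) (K : KX S P₂ V a x y k)
    (T : Sec (CC S P₂ V x) (FF P₂ V x) (zc S) M X) {g : X} (g3 : g ^ 3 = 1)
    (hga : g * T.rho a = T.rho a * g) {e : M} (he : e ≠ 0) (hae : T.rho a • e = e) (hge : g • e = e)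
    {n : M} (han : T.rho a • n = n) : g • n = n := by
  by_cases hn : n = 0
  · rw [hn, smul_zero]
  by_cases hen : n = e
  · rw [hen, hge]
  have h1 : T.rho a • (g • n) = g • n := by rw [← mul_smul, ← hga, mul_smul, han]
  rcases K.fix_cases h T he hn hen hae han h1 with h2 | h2 | h2 | h2
  · exact absurd ((smul_eq_zero_iff_eq g).1 h2) hn
  · exfalso
    apply hen
    have h3 : g • n = g • e := by rw [h2, hge]
    exact smul_left_cancel g h3
  · exact h2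
  · exfalso
    apply he
    have h3 : g • g • n = n := by rw [h2, smul_add, hge, h2, ← add_assoc, K.two T e, zero_add]
    have h4 : g • g • g • n = n := by
      rw [← mul_smul, ← mul_smul, ← pow_three', g3, one_smul]
    rw [h3, h2] at h4
    simpa using h4

/-- Two elements of `Q` acting nontrivially on `M` act in the same way. -/
theorem KX.Q_eq [Finite G] (h : CaseDDefs.Ctx S P P₂ V) (K : KX S P₂ V a x y k)
    (T : Sec (CC S P₂ V x) (FF P₂ V x) (zc S) M X) {q q' : G} (hq : q ∈ o2 P₂) (hq' : q' ∈ o2 P₂)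
    (h1 : T.rho q ≠ 1) (h2 : T.rho q' ≠ 1) : T.rho q = T.rho q' := by
  obtain ⟨e, he, hae, hQe⟩ := K.exists_en h T
  have hcx : ∀ q ∈ o2 P₂, T.rho q * T.rho x = T.rho x * T.rho q := fun q hq =>
    K.rho_comm h T (K.QC h hq) (K.xC h) (K.ql hq K.lx.xL)
  have hca : ∀ q ∈ o2 P₂, T.rho q * T.rho a = T.rho a * T.rho q := fun q hq =>
    K.rho_comm h T (K.QC h hq) (K.aC h) (K.ql hq K.aL)
  -- a nontrivial element of `Q` moves every `n ∈ C_M(a) \ {0, e}` to `e + n`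
  have key : ∀ q ∈ o2 P₂, T.rho q ≠ 1 → ∀ n : M, T.rho a • n = n → n ≠ 0 → n ≠ e →
      T.rho q • n = e + n := by
    intro q hq hne n han hn hen
    have h3 : T.rho a • (T.rho q • n) = T.rho q • n := by
      rw [← mul_smul, ← hca q hq, mul_smul, han]
    rcases K.fix_cases h T he hn hen hae han h3 with h4 | h4 | h4 | h4
    · exact absurd ((smul_eq_zero_iff_eq (T.rho q)).1 h4) hn
    · exfalso
      apply hen
      have h5 : T.rho q • n = T.rho q • e := by rw [h4, hQe q hq]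
      exact smul_left_cancel (T.rho q) h5
    · exfalso
      apply hne
      refine K.eq_one h T (hcx q hq) fun m ham => ?_
      rcases K.fix_cases h T he hn hen hae han ham with h5 | h5 | h5 | h5
      · rw [h5, smul_zero]
      · rw [h5, hQe q hq]
      · rw [h5, h4]
      · rw [h5, smul_add, hQe q hq, h4]
    · exact h4
  rw [← mul_inv_eq_one]
  have hqq : T.rho q * (T.rho q')⁻¹ = T.rho (q * q'⁻¹) := by
    rw [T.rho_mul q (K.QC h hq) _ (K.QC h (inv_mem hq')), T.rho_inv (K.QC h hq')]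
  rw [hqq]
  refine K.eq_one h T (hcx _ (mul_mem hq (inv_mem hq'))) fun m ham => ?_
  rw [← hqq, mul_smul]
  by_cases hm : m = 0
  · rw [hm, smul_zero, smul_zero]
  by_cases hem : m = e
  · have h3 : (T.rho q')⁻¹ • e = e := by rw [inv_smul_eq_iff, hQe q' hq']
    rw [hem, h3, hQe q hq]
  · have h3 := key q hq h1
    have h4 := key q' hq' h2 (e + m) (by rw [smul_add, hae, ham]) (fun h5 => hem (by
      have h6 := K.two T e
      exact (add_left_cancel (h6.trans h5.symm)).symm)) (fun h5 => hm (by simpa using h5))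
    have h5 : (T.rho q')⁻¹ • m = e + m := by
      rw [inv_smul_eq_iff, h4, ← add_assoc, K.two T e, zero_add]
    rw [h5, h3 (e + m) (by rw [smul_add, hae, ham]) (fun h5 => hem (by
      have h6 := K.two T e
      exact (add_left_cancel (h6.trans h5.symm)).symm)) (fun h5 => hm (by simpa using h5)),
      ← add_assoc, K.two T e, zero_add]

/-- `k` and `a` commute on `M`. -/
theorem KX.comm_ak [Finite G] (h : CaseDDefs.Ctx S P P₂ V) (K : KX S P₂ V a x y k)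
    (T : Sec (CC S P₂ V x) (FF P₂ V x) (zc S) M X) : T.rho k * T.rho a = T.rho a * T.rho k := by
  obtain ⟨q, hq⟩ : ∃ q, q = a * k * a⁻¹ * k⁻¹ := ⟨_, rfl⟩
  have hqQ : q ∈ o2 P₂ := hq ▸ K.ak
  have hkC := K.kC h
  have haC := K.aC h
  have h1 : T.rho a * T.rho k * (T.rho a)⁻¹ = T.rho q * T.rho k := by
    rw [← T.rho_conj haC hkC, ← T.rho_mul q (K.QC h hqQ) k hkC]
    congr 1
    rw [hq]; group
  suffices hq1 : T.rho q = 1 by
    rw [hq1, one_mul] at h1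
    exact (mul_inv_eq_iff_eq_mul.1 h1).symm
  by_contra hne
  have k3 : T.rho k ^ 3 = 1 := by rw [← T.rho_pow hkC, K.k3, T.rho_one]
  have hconj : ∀ q ∈ o2 P₂, T.rho q ≠ 1 → T.rho (k * q * k⁻¹) ≠ 1 := by
    intro q hq hne h2
    rw [T.rho_conj hkC (K.QC h hq)] at h2
    exact hne (conj_eq_one_iff.1 h2)
  have hkq : k * q * k⁻¹ ∈ o2 P₂ := Q_conj K.kP hqQ
  have h2 := K.Q_eq h T hqQ hkq hne (hconj q hqQ hne)
  rw [T.rho_conj hkC (K.QC h hqQ)] at h2
  -- `T.rho k` commutes with `T.rho q`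
  have h3 : T.rho q * T.rho k = T.rho k * T.rho q := by
    nth_rewrite 1 [h2]
    group
  have h4 : (T.rho q) ^ 3 = 1 := by
    have h5 : (T.rho a * T.rho k * (T.rho a)⁻¹) ^ 3 = 1 := by
      rw [conj_pow, k3]; group
    rw [h1, (show Commute (T.rho q) (T.rho k) from h3).mul_pow, k3, mul_one] at h5
    exact h5
  obtain ⟨n, hn⟩ := (o2_isPGroup P₂) ⟨q, hqQ⟩
  have hn' : q ^ 2 ^ n = 1 := congrArg Subtype.val hn
  have h5 : T.rho q ^ 2 ^ n = 1 := by rw [← T.rho_pow (K.QC h hqQ), hn', T.rho_one]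
  have hcop : Nat.Coprime (2 ^ n) 3 := Nat.Coprime.pow_left n (by norm_num)
  have h6 : orderOf (T.rho q) ∣ Nat.gcd (2 ^ n) 3 :=
    Nat.dvd_gcd (orderOf_dvd_of_pow_eq_one h5) (orderOf_dvd_of_pow_eq_one h4)
  rw [hcop.gcd_eq_one, Nat.dvd_one, orderOf_eq_one_iff] at h6
  exact hne h6

/-- **(b3)** `k` normalises `D` and acts fixed-point-freely on `D / Z`. -/
theorem KX.main [Finite G] (h : CaseDDefs.Ctx S P P₂ V) (K : KX S P₂ V a x y k) :
    (∀ d ∈ V ⊓ o2 P₂, k * d * k⁻¹ ∈ V ⊓ o2 P₂) ∧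
      ∀ d ∈ V ⊓ o2 P₂, k * d * k⁻¹ * d⁻¹ ∈ zc S → d ∈ zc S := by
  obtain ⟨M, X, _, _, _, ⟨T⟩⟩ := K.exists_sec h
  have hkC := K.kC h
  have hka := K.comm_ak h T
  have hkx : T.rho k * T.rho x = T.rho x * T.rho k := by
    rw [← T.rho_mul k hkC x (K.xC h), K.kx, T.rho_mul x (K.xC h) k hkC]
  have k3 : T.rho k ^ 3 = 1 := by rw [← T.rho_pow hkC, K.k3, T.rho_one]
  have hk1 : T.rho k ≠ 1 := fun h1 => K.not_triv h ((T.rho_eq_one_iff hkC).1 h1)
  have hDF : V ⊓ o2 P₂ ≤ FF P₂ V x := le_sup_left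
  refine ⟨fun d hd => ?_, fun d hd hkd => ?_⟩
  · have h1 : T.rho a • (T.rho k • T.pi d) = T.rho k • T.pi d := by
      rw [← mul_smul, ← hka, mul_smul, (K.fix_a h T _).2 ⟨d, hd, rfl⟩]
    obtain ⟨d', hd', he⟩ := (K.fix_a h T _).1 h1
    have h2 := T.conj_mem hkC (hDF hd)
    rw [T.smul_pi k hkC d (hDF hd), T.pi_eq_iff (hDF hd') h2] at he
    have e : k * d * k⁻¹ = (d' * (k * d * k⁻¹)⁻¹)⁻¹ * d' := by group
    rw [e]
    exact mul_mem (inv_mem (K.lx.ld.Z₀_le he)) hd'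
  · by_contra hdZ
    have h0 : T.pi d ≠ 0 := fun h1 => hdZ ((T.pi_eq_zero d (hDF hd)).1 h1)
    have hfix : T.rho k • T.pi d = T.pi d := by
      rw [T.smul_pi k hkC d (hDF hd), T.pi_eq_iff (T.conj_mem hkC (hDF hd)) (hDF hd)]
      exact hkd
    exact hk1 (K.eq_one h T hkx fun m ham =>
      K.three_triv h T k3 hka h0 ((K.fix_a h T _).2 ⟨d, hd, rfl⟩) hfix ham)

end KX

end Cfsg.Agent.MinSimple.CaseD.KappaAct
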