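import Cfsg.Agent.MinSimple.CaseDGlue
import Cfsg.Agent.MinSimple.CaseD.KappaAct

/-!
# Case (d) of (E1), (5b): the choice of `κ`

`exists_kappa`: if `P₂` is minimal (`RD S P₂ V R r`) and `R / O₂(P₂)` is not abelian, there is `k ∈ P₂` of order
3 which normalises `D = V ⊓ O₂(P₂)` and acts fixed-point-freely on `D / Z`.
-/

set_option autoImplicit false

namespace Cfsg.Agent.MinSimple.CaseD.Kappa

open Subgroup Cfsg Cfsg.Agent.ZN Cfsg.Agent.MinSimple.CaseDDefs Cfsg.Agent.MinSimple.CaseDThree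
open Cfsg.Agent.MinSimple.VModule Cfsg.Agent.MinSimple.CaseDMin Cfsg.Agent.MinSimple.CaseDGlue
open Cfsg.Agent.MinSimple.CaseD.KappaAct
open scoped commutatorElement

universe u

variable {G : Type u} [Group G]

theorem mem_of_pow {K : Subgroup G} {g : G} {m n : ℕ} (hm : g ^ m ∈ K) (hn : g ^ n ∈ K)
    (hco : Nat.Coprime m n) : g ∈ K := by
  obtain ⟨s, t, hst⟩ := Nat.isCoprime_iff_coprime.2 hco
  have e : g = (g ^ m) ^ s * (g ^ n) ^ t := by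
    rw [← zpow_natCast, ← zpow_natCast, ← zpow_mul, ← zpow_mul, ← zpow_add]
    rw [show (m : ℤ) * s + (n : ℤ) * t = 1 by rw [← hst]; ring, zpow_one]
  rw [e]
  exact mul_mem (zpow_mem hm s) (zpow_mem hn t)

/-- The class 2 argument. -/
theorem class_two {H : Type*} [Group H] {a c g : H} {r : ℕ} (hr : Odd r) (hac : a * c = c * a)
    (hag : a * g * a⁻¹ = g⁻¹) (hac' : a * (c * g * c⁻¹ * g⁻¹) = (c * g * c⁻¹ * g⁻¹) * a)
    (hg : g ^ r = 1) : c * g = g * c := by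
  obtain ⟨w, hw⟩ : ∃ w, w = c * g * c⁻¹ := ⟨_, rfl⟩
  rw [← hw] at hac'
  have h1 : a * w * a⁻¹ = w⁻¹ := by
    calc a * w * a⁻¹ = (a * c) * g * (a * c)⁻¹ := by rw [hw]; group
      _ = (c * a) * g * (c * a)⁻¹ := by rw [hac]
      _ = c * (a * g * a⁻¹) * c⁻¹ := by group
      _ = w⁻¹ := by rw [hag, hw]; group
  have h2 : w * g⁻¹ = w⁻¹ * g := by
    have h3 : a * (w * g⁻¹) * a⁻¹ = w * g⁻¹ := by rw [hac']; group
    calc w * g⁻¹ = a * (w * g⁻¹) * a⁻¹ := h3.symm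
      _ = (a * w * a⁻¹) * (a * g * a⁻¹)⁻¹ := by group
      _ = w⁻¹ * g := by rw [h1, hag, inv_inv]
  have h3 : w * w = g * g := by
    calc w * w = w * (w * g⁻¹) * g := by group
      _ = w * (w⁻¹ * g) * g := by rw [h2]
      _ = g * g := by group
  obtain ⟨m, rfl⟩ := hr
  have hw1 : w ^ (2 * m + 1) = 1 := by
    rw [hw, conj_pow, hg]; group
  have key : ∀ u : H, u ^ (2 * m + 1) = 1 → u = (u * u) ^ (m + 1) := by
    intro u hu
    rw [← pow_two, ← pow_mul, show 2 * (m + 1) = (2 * m + 1) + 1 by ring, pow_succ, hu, one_mul]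
  have h4 : w = g := by rw [key w hw1, h3, ← key g hg]
  rw [hw] at h4
  calc c * g = (c * g * c⁻¹) * c := by group
    _ = g * c := by rw [h4]

section

variable {S P P₂ V R : Subgroup G} {a x₀ : G} {r r₀ : ℕ}

theorem mem_R [Finite G] (h : CaseDDefs.Ctx S P P₂ V) (hR : RD S P₂ V R r) {V₀ : Subgroup G}
    (hX : XD P₂ V V₀ a x₀ r₀) : x₀ ∈ R ∧ r₀ = r := by
  have hf : Fact (Nat.Prime 2) := ⟨Nat.prime_two⟩
  have hxR : x₀ ∈ R := by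
    have hN : (R.subgroupOf P₂).Normal := normal_subgroupOf_of_le_normalizer hR.nrm
    have hsup : R.subgroupOf P₂ ⊔ S.subgroupOf P₂ = ⊤ := by
      rw [← subgroupOf_sup hR.le h.SP₂, subgroupOf_eq_top]
      exact hR.sup
    have h1 : (R.subgroupOf P₂).index ∣ Nat.card (S.subgroupOf P₂) := by
      rw [← relIndex_top_right, ← hsup, relIndex_sup_left]
      exact relIndex_dvd_card _ _
    have h2 : IsPGroup 2 (S.subgroupOf P₂) := h.S2.comap_of_injective _ P₂.subtype_injective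
    obtain ⟨n, hn⟩ := IsPGroup.iff_card.1 h2
    rw [hn] at h1
    have h3 : (⟨x₀, hX.xP₂⟩ : P₂) ^ 2 ^ n ∈ R.subgroupOf P₂ := by
      obtain ⟨m, hm⟩ := h1
      rw [hm, pow_mul]
      exact pow_mem (pow_index_mem _ _) m
    have h4 : x₀ ^ 2 ^ n ∈ R := h3
    refine mem_of_pow (hR.Q_le hX.xr) h4 ?_
    exact Nat.Coprime.pow_right n ((Nat.coprime_primes hX.r_prime Nat.prime_two).2 hX.r_ne)
  refine ⟨hxR, ?_⟩
  obtain ⟨k, hk⟩ := hR.pow x₀ hxR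
  by_contra hne
  apply hX.xne
  exact mem_of_pow hX.xr hk (Nat.Coprime.pow_right k ((Nat.coprime_primes hX.r_prime hR.r_prime).2 hne))

/-- The elements of `R` of order `r` modulo `Q` inverted by `a` modulo `Q`. -/
def GS (P₂ R : Subgroup G) (a : G) (r : ℕ) : Set G :=
  {g | g ∈ R ∧ g ^ r ∈ o2 P₂ ∧ a * g * a⁻¹ * g ∈ o2 P₂}

theorem XD.odd {V₀ : Subgroup G} (hX : XD P₂ V V₀ a x₀ r₀) : Odd r₀ := hX.r_prime.odd_of_ne_two hX.r_ne

theorem comm_mod {q s : G} (hs : s ∈ P₂) (hq : q ∈ o2 P₂) : s * q * s⁻¹ ∈ o2 P₂ := Q_conj hs hq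

/-- `R` is generated by `Q` and the elements inverted by `a`. -/
theorem gen [Finite G] (h : CaseDDefs.Ctx S P P₂ V) (hR : RD S P₂ V R r)
    (hX : XD P₂ V (V ⊓ o2 P₂) a x₀ r) : o2 P₂ ⊔ closure (GS P₂ R a r) = R := by
  have hx := (mem_R h hR hX).1
  have haP : a ∈ P₂ := VP h hX.aV
  have hle : o2 P₂ ⊔ closure (GS P₂ R a r) ≤ R := sup_le hR.Q_le ((closure_le _).2 fun g hg => hg.1)
  by_contra hne
  have hS : S ≤ normalizer ((o2 P₂ ⊔ closure (GS P₂ R a r) : Subgroup G) : Set G) := by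
    have key : ∀ s ∈ S, ∀ g ∈ o2 P₂ ⊔ closure (GS P₂ R a r),
        s * g * s⁻¹ ∈ o2 P₂ ⊔ closure (GS P₂ R a r) := by
      intro s hs
      have hsP := h.SP₂ hs
      have hV : ∀ v ∈ V, s⁻¹ * v * s ∈ V := by
        intro v hv
        have h1 := (mem_normalizer_iff.1 (h.PV (h.SP (inv_mem hs))) v).1 hv
        simpa using h1
      -- `s⁻¹ a s = a d`
      obtain ⟨d, hd⟩ : ∃ d, d = a⁻¹ * (s⁻¹ * a * s) := ⟨_, rfl⟩
      have hdQ : d ∈ o2 P₂ := by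
        rcases CaseDExists.XD.or hX _ (hV a hX.aV) with h2 | h2
        · exfalso
          apply CaseDExists.XD.aV₀ hX
          refine ⟨hX.aV, ?_⟩
          have h3 := Q_conj hsP h2.2
          have e : s * (s⁻¹ * a * s) * s⁻¹ = a := by group
          rwa [e] at h3
        · rw [hd, inv_eq_of_mul_eq_one_left (h.Vsq a hX.aV)]
          exact h2.2
      have hsub : o2 P₂ ⊔ closure (GS P₂ R a r) ≤
          (o2 P₂ ⊔ closure (GS P₂ R a r)).comap (MulAut.conj s).toMonoidHom := by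
        refine sup_le ?_ ((closure_le _).2 ?_)
        · intro q hq
          exact mem_sup_left (Q_conj hsP hq)
        · rintro g ⟨hg1, hg2, hg3⟩
          refine mem_sup_right (subset_closure ⟨?_, ?_, ?_⟩)
          · exact (mem_normalizer_iff.1 (hR.nrm hsP) g).1 hg1
          · change (s * g * s⁻¹) ^ r ∈ o2 P₂
            rw [conj_pow]
            exact Q_conj hsP hg2
          · change a * (s * g * s⁻¹) * a⁻¹ * (s * g * s⁻¹) ∈ o2 P₂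
            have hgP : g ∈ P₂ := hR.le hg1
            have h4 : d * g * d⁻¹ * g⁻¹ ∈ o2 P₂ := by
              have h5 := mul_mem hdQ (Q_conj hgP (inv_mem hdQ))
              have e : d * (g * d⁻¹ * g⁻¹) = d * g * d⁻¹ * g⁻¹ := by group
              rwa [e] at h5
            have h5 := Q_conj hsP (mul_mem (Q_conj haP h4) hg3)
            have e : s * (a * (d * g * d⁻¹ * g⁻¹) * a⁻¹ * (a * g * a⁻¹ * g)) * s⁻¹ =
                s * (a * d) * g * (a * d)⁻¹ * g * s⁻¹ := by group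
            have e2 : a * d = s⁻¹ * a * s := by rw [hd]; group
            rw [e, e2] at h5
            have e3 : s * (s⁻¹ * a * s) * g * (s⁻¹ * a * s)⁻¹ * g * s⁻¹ =
                a * (s * g * s⁻¹) * a⁻¹ * (s * g * s⁻¹) := by group
            rwa [e3] at h5
      exact fun g hg => hsub hg
    intro s hs
    rw [mem_normalizer_iff]
    intro g
    refine ⟨key s hs g, fun hg => ?_⟩
    have h2 := key s⁻¹ (inv_mem hs) _ hg
    have e : s⁻¹ * (s * g * s⁻¹) * s⁻¹⁻¹ = g := by group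
    rwa [e] at h2
  have h1 := hR.min _ hle le_sup_left hS hne x₀
    (mem_sup_right (subset_closure ⟨hx, hX.xr, hX.inv⟩)) a hX.aV
  apply hX.xne
  have h2 : x₀ ^ 2 ∈ o2 P₂ := by
    have h3 := mul_mem h1 hX.inv
    have e : x₀ * a * x₀⁻¹ * a⁻¹ * (a * x₀ * a⁻¹ * x₀) = x₀ * (a * (a⁻¹ * a) * a⁻¹) * x₀ := by group
    rw [e] at h3
    have e2 : x₀ ^ 2 = x₀ * (a * (a⁻¹ * a) * a⁻¹) * x₀ := by rw [pow_two]; group
    rwa [e2]
  refine mem_of_pow hX.xr h2 ?_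
  exact (Nat.coprime_primes hX.r_prime Nat.prime_two).2 hX.r_ne

/-- The elements of `P₂` commuting with `g` modulo `Q`. -/
def cq (P₂ : Subgroup G) (g : G) : Subgroup G where
  carrier := {t | t ∈ P₂ ∧ t * g * t⁻¹ * g⁻¹ ∈ o2 P₂}
  one_mem' := ⟨one_mem _, by simp⟩
  mul_mem' := by
    rintro s t ⟨hs, hs'⟩ ⟨ht, ht'⟩
    refine ⟨mul_mem hs ht, ?_⟩
    have e : s * t * g * (s * t)⁻¹ * g⁻¹ = s * (t * g * t⁻¹ * g⁻¹) * s⁻¹ * (s * g * s⁻¹ * g⁻¹) := by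
      group
    rw [e]
    exact mul_mem (Q_conj hs ht') hs'
  inv_mem' := by
    rintro s ⟨hs, hs'⟩
    refine ⟨inv_mem hs, ?_⟩
    have h1 := Q_conj (inv_mem hs) (inv_mem hs')
    have e : s⁻¹ * (s * g * s⁻¹ * g⁻¹)⁻¹ * s⁻¹⁻¹ = s⁻¹ * g * s⁻¹⁻¹ * g⁻¹ := by group
    rwa [e] at h1

theorem mem_cq {g t : G} : t ∈ cq P₂ g ↔ t ∈ P₂ ∧ t * g * t⁻¹ * g⁻¹ ∈ o2 P₂ := Iff.rfl

theorem mem_cq_comm {g t : G} (hg : g ∈ P₂) (ht : t ∈ cq P₂ g) : g ∈ cq P₂ t := by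
  refine ⟨hg, ?_⟩
  have h1 := inv_mem ht.2
  have e : (t * g * t⁻¹ * g⁻¹)⁻¹ = g * t * g⁻¹ * t⁻¹ := by group
  rwa [e] at h1

theorem Q_le_cq {g : G} (hg : g ∈ P₂) : o2 P₂ ≤ cq P₂ g := by
  intro q hq
  refine ⟨o2_le P₂ hq, ?_⟩
  have h1 := mul_mem hq (Q_conj hg (inv_mem hq))
  have e : q * (g * q⁻¹ * g⁻¹) = q * g * q⁻¹ * g⁻¹ := by group
  rwa [e] at h1

/-- Two elements of `R` commute modulo `Q` if the generators do. -/
theorem exists_pair [Finite G] (h : CaseDDefs.Ctx S P P₂ V) (hR : RD S P₂ V R r)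
    (hX : XD P₂ V (V ⊓ o2 P₂) a x₀ r) (hna : ¬ ⁅R, R⁆ ≤ o2 P₂) :
    ∃ g₁ ∈ GS P₂ R a r, ∃ g₂ ∈ GS P₂ R a r, g₁ * g₂ * g₁⁻¹ * g₂⁻¹ ∉ o2 P₂ := by
  by_contra hcon
  push Not at hcon
  apply hna
  have hgen := gen h hR hX
  have h1 : ∀ g ∈ GS P₂ R a r, R ≤ cq P₂ g := by
    intro g hg
    rw [← hgen]
    refine sup_le (Q_le_cq (hR.le hg.1)) ((closure_le _).2 fun t ht => ?_)
    exact ⟨hR.le ht.1, hcon t ht g hg⟩
  have h2 : ∀ t ∈ R, R ≤ cq P₂ t := by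
    intro t ht
    have : o2 P₂ ⊔ closure (GS P₂ R a r) ≤ cq P₂ t :=
      sup_le (Q_le_cq (hR.le ht)) ((closure_le _).2 fun g hg =>
        mem_cq_comm (hR.le hg.1) (h1 g hg ht))
    rwa [hgen] at this
  rw [commutator_le]
  intro s hs t ht
  exact (h2 t ht hs).2

/-- `R₁ = [R, R] Q`. -/
def R₁ (P₂ R : Subgroup G) : Subgroup G := ⁅R, R⁆ ⊔ o2 P₂

theorem R₁_le (hR : RD S P₂ V R r) : R₁ P₂ R ≤ R := sup_le (commutator_le_self R) hR.Q_le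

theorem comm_mem_R₁ {s t : G} (hs : s ∈ R) (ht : t ∈ R) : s * t * s⁻¹ * t⁻¹ ∈ R₁ P₂ R :=
  mem_sup_left (commutator_mem_commutator hs ht)

theorem R₁_ne [Finite G] (h : CaseDDefs.Ctx S P P₂ V) (hR : RD S P₂ V R r)
    {x₀ : G} (hx : x₀ ∈ R) (hxQ : x₀ ∉ o2 P₂) : R₁ P₂ R ≠ R := by
  intro he
  set N : Subgroup P₂ := pCore 2 P₂ with hN
  have hNn : N.Normal := Lib.Cores.pCore_normal 2
  set φ := QuotientGroup.mk' N with hφ
  have hker : φ.ker = N := QuotientGroup.ker_mk' N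
  have hmemN : ∀ g : P₂, φ g = 1 ↔ (g : G) ∈ o2 P₂ := fun g => by
    rw [← MonoidHom.mem_ker, hker, o2_def]
    constructor
    · intro hg; exact ⟨g, hg, rfl⟩
    · rintro ⟨g', hg', he⟩
      rwa [← Subtype.ext he]
  have hsol := h.solP₂
  have hsolq : Group.IsSolvable (P₂ ⧸ N) := inferInstance
  set Rb : Subgroup (P₂ ⧸ N) := (R.subgroupOf P₂).map φ with hRb
  have h1 : R ≤ ((⁅Rb, Rb⁆).comap φ).map P₂.subtype := by
    have h2 : R₁ P₂ R ≤ ((⁅Rb, Rb⁆).comap φ).map P₂.subtype := by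
      refine sup_le ?_ ?_
      · rw [commutator_le]
        intro s hs t ht
        refine ⟨⁅(⟨s, hR.le hs⟩ : P₂), ⟨t, hR.le ht⟩⁆, ?_, rfl⟩
        change φ _ ∈ ⁅Rb, Rb⁆
        rw [map_commutatorElement]
        exact commutator_mem_commutator ⟨_, hs, rfl⟩ ⟨_, ht, rfl⟩
      · intro q hq
        refine ⟨⟨q, o2_le P₂ hq⟩, ?_, rfl⟩
        change φ _ ∈ ⁅Rb, Rb⁆
        rw [(hmemN ⟨q, o2_le P₂ hq⟩).2 hq]
        exact one_mem _
    rwa [he] at h2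
  have h2 : Rb ≤ ⁅Rb, Rb⁆ := by
    rintro _ ⟨g, hg, rfl⟩
    obtain ⟨g', hg', he'⟩ := h1 hg
    rwa [← Subtype.ext he']
  have h3 : Rb = ⊥ := by
    by_contra hne
    exact absurd h2 (not_le_of_gt (Group.IsSolvable.commutator_lt_of_ne_bot hne))
  apply hxQ
  have h4 : φ ⟨x₀, hR.le hx⟩ ∈ Rb := ⟨⟨x₀, hR.le hx⟩, hx, rfl⟩
  rw [h3, mem_bot] at h4
  exact (hmemN _).1 h4

theorem R₁_cent [Finite G] (h : CaseDDefs.Ctx S P P₂ V) (hR : RD S P₂ V R r)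
    {x₀ : G} (hx : x₀ ∈ R) (hxQ : x₀ ∉ o2 P₂) :
    ∀ g ∈ R₁ P₂ R, ∀ v ∈ V, g * v * g⁻¹ * v⁻¹ ∈ o2 P₂ := by
  refine hR.min _ (R₁_le hR) le_sup_right ?_ (R₁_ne h hR hx hxQ)
  have key : ∀ s ∈ P₂, ∀ g ∈ R₁ P₂ R, s * g * s⁻¹ ∈ R₁ P₂ R := by
    intro s hs
    have hsub : R₁ P₂ R ≤ (R₁ P₂ R).comap (MulAut.conj s).toMonoidHom := by
      refine sup_le ?_ fun q hq => mem_sup_right (Q_conj hs hq)
      rw [commutator_le]
      intro t ht u hu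
      refine mem_sup_left ?_
      change (MulAut.conj s) ⁅t, u⁆ ∈ ⁅R, R⁆
      rw [map_commutatorElement]
      exact commutator_mem_commutator ((mem_normalizer_iff.1 (hR.nrm hs) t).1 ht)
        ((mem_normalizer_iff.1 (hR.nrm hs) u).1 hu)
    exact fun g hg => hsub hg
  intro s hs
  rw [mem_normalizer_iff]
  intro g
  refine ⟨key s (h.SP₂ hs) g, fun hg => ?_⟩
  have h2 := key s⁻¹ (inv_mem (h.SP₂ hs)) _ hg
  have e : s⁻¹ * (s * g * s⁻¹) * s⁻¹⁻¹ = g := by group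
  rwa [e] at h2

/-- The elements of `R₁` are central in `R` modulo `Q` (for the generators). -/
theorem R₁_central [Finite G] (h : CaseDDefs.Ctx S P P₂ V) (hR : RD S P₂ V R r)
    (hX : XD P₂ V (V ⊓ o2 P₂) a x₀ r) {c g : G} (hc : c ∈ R₁ P₂ R) (hg : g ∈ GS P₂ R a r) :
    c * g * c⁻¹ * g⁻¹ ∈ o2 P₂ := by
  have hx := (mem_R h hR hX).1
  have hcent := R₁_cent h hR hx hX.xne
  have hcR := R₁_le hR hc
  have hc'R₁ : c * g * c⁻¹ * g⁻¹ ∈ R₁ P₂ R := comm_mem_R₁ hcR hg.1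
  set N : Subgroup P₂ := pCore 2 P₂ with hN
  have hNn : N.Normal := Lib.Cores.pCore_normal 2
  set φ := QuotientGroup.mk' N with hφ
  have hker : φ.ker = N := QuotientGroup.ker_mk' N
  have hmemN : ∀ g : P₂, φ g = 1 ↔ (g : G) ∈ o2 P₂ := fun g => by
    rw [← MonoidHom.mem_ker, hker, o2_def]
    constructor
    · intro hg; exact ⟨g, hg, rfl⟩
    · rintro ⟨g', hg', he⟩
      rwa [← Subtype.ext he]
  obtain ⟨a', ha'⟩ : ∃ a' : P₂, (a' : G) = a := ⟨⟨a, VP h hX.aV⟩, rfl⟩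
  obtain ⟨c', hc'⟩ : ∃ c' : P₂, (c' : G) = c := ⟨⟨c, hR.le hcR⟩, rfl⟩
  obtain ⟨g', hg'⟩ : ∃ g' : P₂, (g' : G) = g := ⟨⟨g, hR.le hg.1⟩, rfl⟩
  have hcomm : ∀ s t : P₂, (s : G) * t * (s : G)⁻¹ * (t : G)⁻¹ ∈ o2 P₂ → φ t * φ s = φ s * φ t := by
    intro s t hst
    have h1 := (hmemN (s * t * s⁻¹ * t⁻¹)).2 hst
    rw [map_mul, map_mul, map_mul, map_inv, map_inv] at h1
    exact (mul_inv_eq_iff_eq_mul.1 (mul_inv_eq_one.1 h1)).symm
  have h1 : φ a' * φ c' = φ c' * φ a' := by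
    refine hcomm c' a' ?_
    rw [hc', ha']
    exact hcent c hc a hX.aV
  have h2 : φ a' * φ g' * (φ a')⁻¹ = (φ g')⁻¹ := by
    have h3 : φ (a' * g' * a'⁻¹ * g') = 1 := by
      refine (hmemN _).2 ?_
      change (a' : G) * g' * (a' : G)⁻¹ * g' ∈ o2 P₂
      rw [ha', hg']
      exact hg.2.2
    rw [map_mul, map_mul, map_mul, map_inv] at h3
    exact eq_inv_of_mul_eq_one_left h3
  have h3 : φ a' * (φ c' * φ g' * (φ c')⁻¹ * (φ g')⁻¹) = (φ c' * φ g' * (φ c')⁻¹ * (φ g')⁻¹) * φ a' := by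
    have h4 := hcomm (c' * g' * c'⁻¹ * g'⁻¹) a' (by
      have h5 := hcent _ hc'R₁ a hX.aV
      rw [← hc', ← hg', ← ha'] at h5
      exact h5)
    rw [map_mul, map_mul, map_mul, map_inv, map_inv] at h4
    exact h4
  have h4 : φ g' ^ r = 1 := by
    rw [← map_pow]
    refine (hmemN _).2 ?_
    change (g' : G) ^ r ∈ o2 P₂
    rw [hg']
    exact hg.2.1
  have h5 := class_two (XD.odd hX) h1 h2 h3 h4
  have h6 : φ (c' * g' * c'⁻¹ * g'⁻¹) = 1 := by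
    rw [map_mul, map_mul, map_mul, map_inv, map_inv, h5]
    group
  have h7 := (hmemN _).1 h6
  change (c' : G) * g' * (c' : G)⁻¹ * (g' : G)⁻¹ ∈ o2 P₂ at h7
  rwa [hc', hg'] at h7

/-- `R = Q R₃` for a Sylow `r`-subgroup `R₃` containing `x`. -/
theorem exists_sylow [Finite G] (hR : RD S P₂ V R r) {x : G} (hx : x ∈ R) (hxr : x ^ r = 1) :
    ∃ R₃ : Subgroup G, R₃ ≤ R ∧ x ∈ R₃ ∧ (∀ g ∈ R, ∃ q ∈ o2 P₂, ∃ y ∈ R₃, g = q * y) ∧
      R₃ ⊓ o2 P₂ = ⊥ := by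
  have hf : Fact r.Prime := ⟨hR.r_prime⟩
  have hQn : ((o2 P₂).subgroupOf R).Normal :=
    normal_subgroupOf_of_le_normalizer (hR.le.trans (le_normalizer_o2 P₂))
  have hxp : IsPGroup r (zpowers (⟨x, hx⟩ : R)) := by
    rintro ⟨g, hg⟩
    obtain ⟨n, rfl⟩ := mem_zpowers_iff.1 hg
    refine ⟨1, Subtype.ext (Subtype.ext ?_)⟩
    change (x ^ n) ^ r ^ 1 = 1
    rw [pow_one, ← zpow_natCast, ← zpow_mul, mul_comm, zpow_mul, zpow_natCast, hxr, one_zpow]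
  obtain ⟨T, hT⟩ := hxp.exists_le_sylow
  refine ⟨(T : Subgroup R).map R.subtype, map_subtype_le _, ⟨⟨x, hx⟩, hT (mem_zpowers _), rfl⟩, ?_, ?_⟩
  · have hq : IsPGroup r (R ⧸ (o2 P₂).subgroupOf R) := by
      intro g
      obtain ⟨g, rfl⟩ := QuotientGroup.mk_surjective g
      obtain ⟨k, hk⟩ := hR.pow g g.2
      refine ⟨k, ?_⟩
      rw [← QuotientGroup.mk_pow, QuotientGroup.eq_one_iff]
      exact hk
    have htop : (o2 P₂).subgroupOf R ⊔ (T : Subgroup R) = ⊤ := by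
      rw [← index_eq_one]
      obtain ⟨n, hn⟩ := IsPGroup.iff_card.1 hq
      have h1 : ((o2 P₂).subgroupOf R ⊔ (T : Subgroup R)).index ∣ r ^ n := by
        rw [← hn]
        exact index_dvd_of_le le_sup_left
      have h2 : ((o2 P₂).subgroupOf R ⊔ (T : Subgroup R)).index ∣ (T : Subgroup R).index :=
        index_dvd_of_le le_sup_right
      have h3 : Nat.Coprime (r ^ n) (T : Subgroup R).index :=
        Nat.Coprime.pow_left n ((Nat.Prime.coprime_iff_not_dvd hR.r_prime).2 T.not_dvd_index)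
      exact Nat.eq_one_of_dvd_coprimes h3 h1 h2
    intro g hg
    have h1 : (⟨g, hg⟩ : R) ∈ (o2 P₂).subgroupOf R ⊔ (T : Subgroup R) := htop ▸ mem_top _
    obtain ⟨q, hq', y, hy, hqy⟩ := mem_sup_of_normal_left.1 h1
    exact ⟨q, hq', y, ⟨y, hy, rfl⟩, (congrArg Subtype.val hqy).symm⟩
  · have hfp : Fact (Nat.Prime 2) := ⟨Nat.prime_two⟩
    exact (IsPGroup.disjoint_of_ne r 2 hR.r_ne _ _ (T.isPGroup'.map _) (o2_isPGroup P₂)).eq_bot

theorem exists_kx [Finite G] (h : CaseDDefs.Ctx S P P₂ V) (hR : RD S P₂ V R r)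
    (hPD : PDAll P P₂ V) (hna : ¬ ⁅R, R⁆ ≤ o2 P₂) : ∃ a x y k : G, KX S P₂ V a x y k := by
  obtain ⟨V₀, a, x₀, r₀, hX₀⟩ := CaseDExists.exists_XD h
  obtain ⟨hV₀, -, -, -⟩ := V₀_eq h hPD hX₀
  subst hV₀
  obtain ⟨hx₀R, hr⟩ := mem_R h hR hX₀
  subst hr
  obtain ⟨g₁, hg₁, g₂, hg₂, hg⟩ := exists_pair h hR hX₀ hna
  have hg₁Q : g₁ ∉ o2 P₂ := by
    intro h1
    apply hg
    have h2 := mul_mem h1 (Q_conj (hR.le hg₂.1) (inv_mem h1))
    have e : g₁ * (g₂ * g₁⁻¹ * g₂⁻¹) = g₁ * g₂ * g₁⁻¹ * g₂⁻¹ := by group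
    rwa [e] at h2
  have hX : XD P₂ V (V ⊓ o2 P₂) a g₁ r₀ :=
    { r_prime := hX₀.r_prime
      r_ne := hX₀.r_ne
      xP₂ := hR.le hg₁.1
      xne := hg₁Q
      xr := hg₁.2.1
      V₀_le := hX₀.V₀_le
      D_le := hX₀.D_le
      idx := hX₀.idx
      cent := fun v hv => by
        have h2 := mul_mem hv.2 (Q_conj (hR.le hg₁.1) (inv_mem hv.2))
        have e : v * (g₁ * v⁻¹ * g₁⁻¹) = v * g₁ * v⁻¹ * g₁⁻¹ := by group
        rwa [e] at h2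
      aV := hX₀.aV
      inv := hg₁.2.2 }
  obtain ⟨q₁, hq₁, hx3, hLX, -⟩ := exists_lx h hPD hX
  have hr3 := hLX.three
  subst hr3
  obtain ⟨x, hx⟩ : ∃ x, x = g₁ * q₁ := ⟨_, rfl⟩
  rw [← hx] at hx3 hLX
  have hxR : x ∈ R := hx ▸ mul_mem hg₁.1 (hR.Q_le hq₁)
  obtain ⟨R₃, hR₃, hxR₃, hfac, hdis⟩ := exists_sylow hR hxR hx3
  obtain ⟨q₂, hq₂, y, hy, hg₂y⟩ := hfac g₂ hg₂.1
  obtain ⟨k, hk⟩ : ∃ k, k = x * y * x⁻¹ * y⁻¹ := ⟨_, rfl⟩
  have hyR : y ∈ R := hR₃ hy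
  have hxP := hR.le hxR
  have hyP := hR.le hyR
  have hkR₃ : k ∈ R₃ := by
    rw [hk]
    exact mul_mem (mul_mem (mul_mem hxR₃ hy) (inv_mem hxR₃)) (inv_mem hy)
  have hkP := hR.le (hR₃ hkR₃)
  -- pass to `P₂ / Q`
  have hkR₁ : k ∈ R₁ P₂ R := hk ▸ comm_mem_R₁ hxR hyR
  have hkQ : k ∉ o2 P₂ := by
    intro h1
    apply hg
    have h2 : x ∈ cq P₂ y := ⟨hxP, hk ▸ h1⟩
    have h3 : g₁ ∈ cq P₂ y := by
      have := mul_mem h2 (Q_le_cq hyP (inv_mem hq₁))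
      rwa [hx, mul_inv_cancel_right] at this
    have h4 := mem_cq_comm hyP h3
    have h5 : g₂ ∈ cq P₂ g₁ := hg₂y ▸ mul_mem (Q_le_cq (hR.le hg₁.1) hq₂) h4
    exact (mem_cq_comm (hR.le hg₁.1) h5).2
  have hkx : k * x * k⁻¹ * x⁻¹ ∈ o2 P₂ := by
    have h1 : g₁ ∈ cq P₂ k := mem_cq_comm (hR.le hg₁.1) ⟨hkP, R₁_central h hR hX₀ hkR₁ hg₁⟩
    have h2 : x ∈ cq P₂ k := hx ▸ mul_mem h1 (Q_le_cq hkP hq₁)
    exact (mem_cq_comm hkP h2).2
  have hky : k * y * k⁻¹ * y⁻¹ ∈ o2 P₂ := by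
    have h1 : g₂ ∈ cq P₂ k := mem_cq_comm (hR.le hg₂.1) ⟨hkP, R₁_central h hR hX₀ hkR₁ hg₂⟩
    have h2 : y ∈ cq P₂ k := by
      have := mul_mem (Q_le_cq hkP (inv_mem hq₂)) h1
      rwa [hg₂y, inv_mul_cancel_left] at this
    exact (mem_cq_comm hkP h2).2
  have hex : ∀ s ∈ R₃, k * s * k⁻¹ * s⁻¹ ∈ o2 P₂ → k * s = s * k := by
    intro s hs h1
    have h2 : k * s * k⁻¹ * s⁻¹ ∈ R₃ ⊓ o2 P₂ :=
      ⟨R₃.mul_mem (R₃.mul_mem (R₃.mul_mem hkR₃ hs) (R₃.inv_mem hkR₃)) (R₃.inv_mem hs), h1⟩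
    rw [hdis, mem_bot] at h2
    exact mul_inv_eq_iff_eq_mul.1 (mul_inv_eq_one.1 h2)
  have ckx := hex x hxR₃ hkx
  have cky := hex y hy hky
  refine ⟨a, x, y, k, hLX, hxP, hyP, hk, ckx, cky, hx3, ?_, hkQ, ?_⟩
  · -- `x ^ 3 y x⁻³ = k ^ 3 y`
    have e1 : x * y * x⁻¹ = k * y := by rw [hk]; group
    have e2 : x * (x * y * x⁻¹) * x⁻¹ = k * (k * y) := by
      calc x * (x * y * x⁻¹) * x⁻¹ = (x * k) * y * x⁻¹ := by rw [e1]; group
        _ = (k * x) * y * x⁻¹ := by rw [ckx]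
        _ = k * (x * y * x⁻¹) := by group
        _ = k * (k * y) := by rw [e1]
    have e3 : x * (x * (x * y * x⁻¹) * x⁻¹) * x⁻¹ = k * (k * (k * y)) := by
      calc x * (x * (x * y * x⁻¹) * x⁻¹) * x⁻¹ = (x * k) * k * y * x⁻¹ := by rw [e2]; group
        _ = (k * x) * k * y * x⁻¹ := by rw [ckx]
        _ = k * (x * k) * y * x⁻¹ := by group
        _ = k * (k * x) * y * x⁻¹ := by rw [ckx]
        _ = k * (k * (x * y * x⁻¹)) := by group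
        _ = k * (k * (k * y)) := by rw [e1]
    have e4 : x * (x * (x * y * x⁻¹) * x⁻¹) * x⁻¹ = x ^ 3 * y * (x ^ 3)⁻¹ := by
      rw [pow_succ, pow_two]; group
    rw [e4, hx3] at e3
    have e5 : k * (k * k) * y = y := by
      calc k * (k * k) * y = k * (k * (k * y)) := by group
        _ = y := by rw [← e3]; simp
    have e6 := mul_eq_right.1 e5
    rw [pow_succ, pow_two, mul_assoc]
    exact e6
  · have h1 := R₁_cent h hR hx₀R hX₀.xne k hkR₁ a hX₀.aV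
    have h2 := inv_mem h1
    have e : (k * a * k⁻¹ * a⁻¹)⁻¹ = a * k * a⁻¹ * k⁻¹ := by group
    rwa [e] at h2

/-- **(5b), first part.** -/
theorem exists_kappa [Finite G] (h : CaseDDefs.Ctx S P P₂ V) (hR : RD S P₂ V R r)
    (hPD : PDAll P P₂ V) (hna : ¬ ⁅R, R⁆ ≤ o2 P₂) :
    ∃ k ∈ P₂, k ^ 3 = 1 ∧ (∀ d ∈ V ⊓ o2 P₂, k * d * k⁻¹ ∈ V ⊓ o2 P₂) ∧
      ∀ d ∈ V ⊓ o2 P₂, k * d * k⁻¹ * d⁻¹ ∈ zc S → d ∈ zc S := by
  obtain ⟨a, x, y, k, K⟩ := exists_kx h hR hPD hna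
  exact ⟨k, K.kP, K.k3, (K.main h).1, (K.main h).2⟩

end

end Cfsg.Agent.MinSimple.CaseD.Kappa
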