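import Cfsg.Agent.MinSimple.Basic
import Cfsg.Agent.MinSimple.CaseDDefs
import Cfsg.Agent.MinSimple.CaseDBase
import Cfsg.Agent.MinSimple.CaseDMin
import Cfsg.Agent.Lib.FrattiniBasic

/-!
# Case (d), step (5b): (b0)

The choice of `x, x₂, κ` when `R / O₂(P₂)` is nonabelian.
-/

set_option autoImplicit false

namespace Cfsg.Agent.MinSimple.CaseD.BZero

open Subgroup Cfsg Cfsg.Agent.ZN Cfsg.Agent.MinSimple.CaseDDefs Cfsg.Agent.MinSimple.VModule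
open Cfsg.Agent.MinSimple.CaseDBase (le_normalizer_of conj_mem_of_le)
open scoped commutatorElement

section Abstract

variable {X : Type*} [Group X]

/-- An `r`-group (`r` odd) has no elements `u` with `u * u = 1`. -/
theorem eq_one_of_sq {r : ℕ} (hr : r.Prime) (hr2 : r ≠ 2) {u : X} (hu : ∃ k : ℕ, u ^ r ^ k = 1)
    (h2 : u * u = 1) : u = 1 := by
  obtain ⟨k, hk⟩ := hu
  have h1 : orderOf u ∣ r ^ k := orderOf_dvd_of_pow_eq_one hk
  have h3 : orderOf u ∣ 2 := orderOf_dvd_of_pow_eq_one (by rw [pow_two]; exact h2)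
  have hcop : Nat.Coprime (r ^ k) 2 :=
    Nat.Coprime.pow_left k ((Nat.coprime_primes hr Nat.prime_two).mpr hr2)
  have h4 : orderOf u ∣ 1 := by rw [← hcop]; exact Nat.dvd_gcd h1 h3
  exact orderOf_eq_one_iff.mp (Nat.dvd_one.mp h4)

/-- The Frattini subgroup of a subgroup is normalised by the normaliser. -/
theorem normalizer_le_frattini (K : Subgroup X) :
    normalizer (K : Set X) ≤ normalizer (((frattini K).map K.subtype : Subgroup X) : Set X) := by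
  refine le_normalizer_of fun s hs f hf => ?_
  obtain ⟨f, hf, rfl⟩ := hf
  have h1 : (frattini K).comap (normalizerMonoidHom K ⟨s, hs⟩).toMonoidHom = frattini K :=
    frattini_characteristic.fixed _
  rw [← h1] at hf
  exact ⟨_, hf, rfl⟩

/-- The structure of `K = R / Q`. -/
theorem core [Finite X] {r : ℕ} (hr : r.Prime) (hr2 : r ≠ 2) {K S : Subgroup X} {a : X}
    (hK : IsPGroup r K) (hSK : S ≤ normalizer (K : Set X)) (haS : a ∈ S) (haa : a * a = 1)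
    (hac : ∀ s ∈ S, s * a = a * s) (hne : ∃ g ∈ K, a * g ≠ g * a)
    (hmin : ∀ W : Subgroup X, W ≤ K → S ≤ normalizer (W : Set X) → W ≠ K →
      ∀ w ∈ W, a * w = w * a) (hna : ∃ g ∈ K, ∃ h ∈ K, g * h ≠ h * g) :
    (∀ g ∈ K, ∀ h ∈ K, ∀ k ∈ K, (g * h * g⁻¹ * h⁻¹) * k = k * (g * h * g⁻¹ * h⁻¹)) ∧
    (∀ g ∈ K, ∀ h ∈ K, a * (g * h * g⁻¹ * h⁻¹) = (g * h * g⁻¹ * h⁻¹) * a) ∧
    ∃ t ∈ K, a * t * a⁻¹ = t⁻¹ ∧ t ^ r = 1 ∧ ∃ k ∈ K, t * k ≠ k * t := by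
  have hf : Fact r.Prime := ⟨hr⟩
  have hodd : ∀ u ∈ K, u * u = 1 → u = 1 := by
    intro u hu h2
    obtain ⟨k, hk⟩ := hK ⟨u, hu⟩
    exact eq_one_of_sq hr hr2 ⟨k, congrArg Subtype.val hk⟩ h2
  have hKne : Nontrivial K := by
    rw [nontrivial_iff_ne_bot]
    rintro rfl
    obtain ⟨g, hg, hg2⟩ := hne
    rw [mem_bot.mp hg] at hg2
    exact hg2 (by rw [mul_one, one_mul])
  have hai : a⁻¹ = a := inv_eq_of_mul_eq_one_left haa
  -- the Frattini subgroup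
  set Φ : Subgroup X := (frattini K).map K.subtype with hΦ
  have hΦK : Φ ≤ K := by
    rintro _ ⟨f, _, rfl⟩
    exact f.2
  have hΦne : Φ ≠ K := by
    intro h1
    have h2 : frattini K = ⊤ := by
      rw [eq_top_iff]
      intro k _
      have h3 : (k : X) ∈ Φ := by rw [h1]; exact k.2
      obtain ⟨f, hf, hfk⟩ := h3
      rwa [← Subtype.ext hfk]
    have h3 : (⊥ : Subgroup K) = ⊤ := frattini_nongenerating (by rw [h2, bot_sup_eq])
    exact bot_ne_top h3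
  have hΦa := hmin Φ hΦK (hSK.trans (normalizer_le_frattini K)) hΦne
  have hcommΦ : ∀ g ∈ K, ∀ h ∈ K, g * h * g⁻¹ * h⁻¹ ∈ Φ := by
    intro g hg h hh
    refine ⟨⁅(⟨g, hg⟩ : K), ⟨h, hh⟩⁆, ?_, rfl⟩
    apply Lib.FrattiniBasic.commutator_le_frattini hK
    exact commutator_mem_commutator (mem_top _) (mem_top _)
  have hpowΦ : ∀ g ∈ K, g ^ r ∈ Φ := fun g hg =>
    ⟨(⟨g, hg⟩ : K) ^ r, Lib.FrattiniBasic.pow_mem_frattini hK _, rfl⟩
  have haK : ∀ g ∈ K, a * g * a⁻¹ ∈ K := fun g hg => conj_mem_of_le hSK haS hg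
  -- generators
  set E : Subgroup X := closure {u | ∃ g ∈ K, u = g⁻¹ * (a * g * a⁻¹)} with hE
  have hEK : E ≤ K := by
    rw [hE, closure_le]
    rintro _ ⟨g, hg, rfl⟩
    exact mul_mem (inv_mem hg) (haK g hg)
  have hSE : S ≤ normalizer (E : Set X) := by
    refine le_normalizer_of fun s hs e he => ?_
    rw [hE] at he
    induction he using closure_induction with
    | mem u hu =>
      obtain ⟨g, hg, rfl⟩ := hu
      refine subset_closure ⟨s * g * s⁻¹, conj_mem_of_le hSK hs hg, ?_⟩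
      have h1 := hac s hs
      have h2 : a * s⁻¹ = s⁻¹ * a := by
        rw [eq_inv_mul_iff_mul_eq, ← mul_assoc, h1, mul_inv_cancel_right]
      calc s * (g⁻¹ * (a * g * a⁻¹)) * s⁻¹ = s * g⁻¹ * a * g * (s * a)⁻¹ := by group
        _ = s * g⁻¹ * a * g * (a * s)⁻¹ := by rw [h1]
        _ = s * g⁻¹ * a * g * s⁻¹ * a⁻¹ := by group
        _ = s * g⁻¹ * (s⁻¹ * a * s) * g * s⁻¹ * a⁻¹ := by rw [← h2]; group
        _ = (s * g * s⁻¹)⁻¹ * (a * (s * g * s⁻¹) * a⁻¹) := by group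
    | one => rw [mul_one, mul_inv_cancel]; exact one_mem _
    | mul x y _ _ hx hy =>
      have : s * (x * y) * s⁻¹ = (s * x * s⁻¹) * (s * y * s⁻¹) := by group
      rw [this]
      exact mul_mem hx hy
    | inv x _ hx =>
      have : s * x⁻¹ * s⁻¹ = (s * x * s⁻¹)⁻¹ := by group
      rw [this]
      exact inv_mem hx
  have hinv : ∀ g, a * (g⁻¹ * (a * g * a⁻¹)) * a⁻¹ = (g⁻¹ * (a * g * a⁻¹))⁻¹ := by
    intro g
    calc a * (g⁻¹ * (a * g * a⁻¹)) * a⁻¹ = a * g⁻¹ * a * g * (a * a)⁻¹ := by group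
      _ = a * g⁻¹ * a⁻¹ * g := by rw [haa, hai]; group
      _ = (g⁻¹ * (a * g * a⁻¹))⁻¹ := by group
  have hEeq : E = K := by
    by_contra h1
    have h2 := hmin E hEK hSE h1
    obtain ⟨g, hg, hg2⟩ := hne
    apply hg2
    have h3 : g⁻¹ * (a * g * a⁻¹) ∈ E := subset_closure ⟨g, hg, rfl⟩
    have h4 := hinv g
    rw [h2 _ h3, mul_inv_cancel_right] at h4
    have h5 := hodd _ (hEK h3) (by nth_rewrite 2 [h4]; rw [mul_inv_cancel])
    rw [inv_mul_eq_one, eq_mul_inv_iff_mul_eq] at h5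
    exact h5.symm
  -- `K'` is central
  have hcen : ∀ c ∈ Φ, (∀ g ∈ K, g * c * g⁻¹ ∈ Φ) → ∀ k ∈ K, c * k = k * c := by
    intro c hc hconj k hk
    rw [← hEeq, hE] at hk
    induction hk using closure_induction with
    | mem u hu =>
      obtain ⟨g, hg, rfl⟩ := hu
      have h1 := hΦa c hc
      have h2 := hΦa _ (hconj g hg)
      have h3 : (a * g * a⁻¹) * c * (a * g * a⁻¹)⁻¹ = g * c * g⁻¹ := by
        calc (a * g * a⁻¹) * c * (a * g * a⁻¹)⁻¹ = a * g * (a⁻¹ * (c * a)) * g⁻¹ * a⁻¹ := by group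
          _ = a * (g * c * g⁻¹) * a⁻¹ := by rw [← h1]; group
          _ = g * c * g⁻¹ := by rw [h2, mul_inv_cancel_right]
      have h4 : (g⁻¹ * (a * g * a⁻¹)) * c * (g⁻¹ * (a * g * a⁻¹))⁻¹ = c := by
        calc (g⁻¹ * (a * g * a⁻¹)) * c * (g⁻¹ * (a * g * a⁻¹))⁻¹ =
            g⁻¹ * ((a * g * a⁻¹) * c * (a * g * a⁻¹)⁻¹) * g := by group
          _ = c := by rw [h3]; group
      rw [mul_inv_eq_iff_eq_mul] at h4
      exact h4.symm
    | one => rw [mul_one, one_mul]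
    | mul x y _ _ hx hy => rw [← mul_assoc, hx, mul_assoc, hy, mul_assoc]
    | inv x _ hx => rw [eq_inv_mul_iff_mul_eq, ← mul_assoc, ← hx, mul_inv_cancel_right]
  have hcen' : ∀ g ∈ K, ∀ h ∈ K, ∀ k ∈ K, (g * h * g⁻¹ * h⁻¹) * k = k * (g * h * g⁻¹ * h⁻¹) := by
    intro g hg h hh k hk
    refine hcen _ (hcommΦ g hg h hh) (fun l hl => ?_) k hk
    have h1 : l * (g * h * g⁻¹ * h⁻¹) * l⁻¹ =
        (l * g * l⁻¹) * (l * h * l⁻¹) * (l * g * l⁻¹)⁻¹ * (l * h * l⁻¹)⁻¹ := by group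
    rw [h1]
    exact hcommΦ _ (mul_mem (mul_mem hl hg) (inv_mem hl)) _ (mul_mem (mul_mem hl hh) (inv_mem hl))
  refine ⟨hcen', fun g hg h hh => hΦa _ (hcommΦ g hg h hh), ?_⟩
  -- a noncentral inverted element
  obtain ⟨t, ⟨g, hg, rfl⟩, k, hk, hnc⟩ :
      ∃ t, (∃ g ∈ K, t = g⁻¹ * (a * g * a⁻¹)) ∧ ∃ k ∈ K, t * k ≠ k * t := by
    by_contra hcon
    push Not at hcon
    obtain ⟨g, hg, h, hh, hgh⟩ := hna
    apply hgh
    rw [← hEeq, hE] at hg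
    clear hgh
    induction hg using closure_induction with
    | mem u hu => exact hcon u hu h hh
    | one => rw [mul_one, one_mul]
    | mul x y _ _ hx hy => rw [mul_assoc, hy, ← mul_assoc, hx, mul_assoc]
    | inv x _ hx => rw [inv_mul_eq_iff_eq_mul, ← mul_assoc, hx, mul_inv_cancel_right]
  have htK : g⁻¹ * (a * g * a⁻¹) ∈ K := mul_mem (inv_mem hg) (haK g hg)
  refine ⟨_, htK, hinv g, ?_, k, hk, hnc⟩
  have h1 := hΦa _ (hpowΦ _ htK)
  have h2 : a * (g⁻¹ * (a * g * a⁻¹)) ^ r * a⁻¹ = ((g⁻¹ * (a * g * a⁻¹)) ^ r)⁻¹ := by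
    rw [← conj_pow, hinv, inv_pow]
  rw [h1, mul_inv_cancel_right] at h2
  exact hodd _ (pow_mem htK r) (by nth_rewrite 2 [h2]; rw [mul_inv_cancel])

end Abstract

variable {G : Type*} [Group G]

/-- **(b0)**. -/
theorem exists_pair [Finite G] {S P P₂ V R : Subgroup G} {r : ℕ} (h : CaseDDefs.Ctx S P P₂ V)
    (hR : CaseDMin.RD S P₂ V R r) (hidx : (V ⊓ o2 P₂).relIndex V = 2)
    (hna : ¬ ⁅R, R⁆ ≤ o2 P₂) :
    ∃ a ρ : G, ρ ∈ R ∧ CaseDDefs.XD P₂ V (V ⊓ o2 P₂) a ρ r ∧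
      ∀ q ∈ o2 P₂, (ρ * q) ^ r = 1 →
        ∃ x₂ κ : G, x₂ ∈ R ∧ κ ∈ R ∧ κ = (ρ * q) * x₂ * (ρ * q)⁻¹ * x₂⁻¹ ∧ κ ∉ o2 P₂ ∧
          κ ^ r = 1 ∧ κ * (ρ * q) = (ρ * q) * κ ∧ κ * x₂ = x₂ * κ ∧
          a * κ * a⁻¹ * κ⁻¹ ∈ o2 P₂ := by
  have hf : Fact r.Prime := ⟨hR.r_prime⟩
  have hVP : V ≤ P₂ := h.VS.trans h.SP₂
  have hON := le_normalizer_o2 P₂
  have hO : ∀ g ∈ P₂, ∀ q ∈ o2 P₂, g * q * g⁻¹ ∈ o2 P₂ := fun g hg q hq => conj_mem_of_le hON hg hq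
  have hOP : o2 P₂ ≤ P₂ := o2_le P₂
  set N : Subgroup P₂ := pCore 2 P₂ with hN
  have hNn : N.Normal := Lib.Cores.pCore_normal 2
  set φ := QuotientGroup.mk' N with hφ
  have hφs : Function.Surjective φ := QuotientGroup.mk'_surjective N
  have hker : φ.ker = N := QuotientGroup.ker_mk' N
  have hmemN : ∀ g : P₂, φ g = 1 ↔ (g : G) ∈ o2 P₂ := fun g => by
    rw [← MonoidHom.mem_ker, hker, o2_def]
    constructor
    · intro hg; exact ⟨g, hg, rfl⟩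
    · rintro ⟨g', hg', he⟩
      rwa [← Subtype.ext he]
  set K : Subgroup (P₂ ⧸ N) := (R.subgroupOf P₂).map φ with hK
  set T : Subgroup (P₂ ⧸ N) := (S.subgroupOf P₂).map φ with hT
  -- the element `a`
  obtain ⟨a, haV, haD⟩ : ∃ a ∈ V, a ∉ V ⊓ o2 P₂ := by
    by_contra hcon
    push Not at hcon
    have h1 : (V ⊓ o2 P₂).relIndex V = 1 := relIndex_eq_one.mpr hcon
    omega
  have hor : ∀ v ∈ V, v ∈ V ⊓ o2 P₂ ∨ a * v ∈ V ⊓ o2 P₂ := by
    intro v hv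
    by_cases hvD : v ∈ V ⊓ o2 P₂
    · exact Or.inl hvD
    · right
      have h1 : ((V ⊓ o2 P₂).subgroupOf V).index = 2 := hidx
      have h2 := (mul_mem_iff_of_index_two h1 (a := ⟨a, haV⟩) (b := ⟨v, hv⟩)).mpr
        ⟨fun h3 => absurd h3 haD, fun h3 => absurd h3 hvD⟩
      exact h2
  have haa : a * a = 1 := h.Vsq a haV
  have haP := hVP haV
  have hφa : ∀ v (hv : v ∈ V), v ∉ V ⊓ o2 P₂ → φ ⟨v, hVP hv⟩ = φ ⟨a, haP⟩ := by
    intro v hv hvD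
    have h1 := (hor v hv).resolve_left hvD
    have h2 : φ ⟨a * v, mul_mem haP (hVP hv)⟩ = 1 := (hmemN _).mpr h1.2
    have h3 : φ ⟨a, haP⟩ * φ ⟨v, hVP hv⟩ = 1 := by rw [← map_mul]; exact h2
    have h4 : φ ⟨a, haP⟩ * φ ⟨a, haP⟩ = 1 := by
      rw [← map_mul, ← map_one φ]
      exact congrArg φ (Subtype.ext haa)
    exact mul_left_cancel (h3.trans h4.symm)
  have hKmem : ∀ k ∈ K, ∃ (g : G) (hg : g ∈ R), φ ⟨g, hR.le hg⟩ = k := by
    rintro _ ⟨g, hg, rfl⟩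
    exact ⟨g, hg, rfl⟩
  have hmemK : ∀ (g : G) (hg : g ∈ R), φ ⟨g, hR.le hg⟩ ∈ K := fun g hg => ⟨_, hg, rfl⟩
  have hKr : IsPGroup r K := by
    rintro ⟨k, hk⟩
    obtain ⟨g, hg, rfl⟩ := hKmem k hk
    obtain ⟨m, hm⟩ := hR.pow g hg
    refine ⟨m, Subtype.ext ?_⟩
    have h1 : φ ⟨g, hR.le hg⟩ ^ r ^ m = 1 := by
      rw [← map_pow]
      exact (hmemN _).mpr hm
    exact h1
  have hcomm : ∀ (g : G) (hg : g ∈ P₂) (k : G) (hk : k ∈ P₂), g * k * g⁻¹ * k⁻¹ ∈ o2 P₂ ↔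
      φ ⟨g, hg⟩ * φ ⟨k, hk⟩ = φ ⟨k, hk⟩ * φ ⟨g, hg⟩ := by
    intro g hg k hk
    have h1 := hmemN (⟨g, hg⟩ * ⟨k, hk⟩ * ⟨g, hg⟩⁻¹ * ⟨k, hk⟩⁻¹)
    rw [map_mul, map_mul, map_mul, map_inv, map_inv, mul_inv_eq_one, mul_inv_eq_iff_eq_mul] at h1
    exact h1.symm
  have hTK : T ≤ normalizer (K : Set (P₂ ⧸ N)) := by
    refine le_normalizer_of ?_
    rintro _ ⟨s, hs, rfl⟩ k hk
    obtain ⟨g, hg, rfl⟩ := hKmem k hk
    rw [← map_inv, ← map_mul, ← map_mul]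
    exact hmemK _ (conj_mem_of_le hR.nrm s.2 hg)
  obtain ⟨c1, c2, t, htK, hta, htr, k₀, hk₀, htk⟩ := core hR.r_prime hR.r_ne hKr hTK
    (a := φ ⟨a, haP⟩) ⟨⟨a, haP⟩, h.VS haV, rfl⟩
    (by rw [← map_mul, ← map_one φ]; exact congrArg φ (Subtype.ext haa))
    (by
      rintro _ ⟨s, hs, rfl⟩
      have hs' : (s : G) ∈ S := hs
      have h1 : (s : G) * a * (s : G)⁻¹ ∈ V := conj_mem_of_le h.PV (h.SP hs') haV
      have h2 : (s : G) * a * (s : G)⁻¹ ∉ V ⊓ o2 P₂ := by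
        intro h3
        apply haD
        refine ⟨haV, ?_⟩
        have h4 := hO _ (inv_mem s.2) _ h3.2
        have h5 : (s : G)⁻¹ * ((s : G) * a * (s : G)⁻¹) * (s : G)⁻¹⁻¹ = a := by group
        rwa [h5] at h4
      have h3 := hφa _ h1 h2
      have h4 : φ s * φ ⟨a, haP⟩ * (φ s)⁻¹ = φ ⟨a, haP⟩ := by
        refine Eq.trans ?_ h3
        rw [← map_inv, ← map_mul, ← map_mul]
        rfl
      rw [mul_inv_eq_iff_eq_mul] at h4
      exact h4)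
    (by
      obtain ⟨g, hg, v, hv, hgv⟩ := hR.ne
      refine ⟨φ ⟨g, hR.le hg⟩, hmemK g hg, fun h1 => hgv ?_⟩
      by_cases hvD : v ∈ V ⊓ o2 P₂
      · have h2 := hO g (hR.le hg) v hvD.2
        exact mul_mem h2 (inv_mem hvD.2)
      · rw [hcomm g (hR.le hg) v (hVP hv), hφa v hv hvD]
        exact h1.symm)
    (by
      intro W hWK hTW hWne w hw
      set R' : Subgroup G := (W.comap φ).map P₂.subtype with hR'
      have hmemR' : ∀ g, g ∈ R' ↔ ∃ hg : g ∈ P₂, φ ⟨g, hg⟩ ∈ W := by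
        intro g
        constructor
        · rintro ⟨g', hg', rfl⟩
          exact ⟨g'.2, hg'⟩
        · rintro ⟨hg, hg'⟩
          exact ⟨⟨g, hg⟩, hg', rfl⟩
      have h1 : R' ≤ R := by
        intro g hg
        obtain ⟨hgP, hgW⟩ := (hmemR' g).mp hg
        obtain ⟨g', hg', he⟩ := hKmem _ (hWK hgW)
        have h2 : g * g'⁻¹ ∈ o2 P₂ := by
          have := hmemN (⟨g, hgP⟩ * ⟨g', hR.le hg'⟩⁻¹)
          rw [map_mul, map_inv, he, mul_inv_cancel] at this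
          exact this.mp rfl
        have h3 := mul_mem (hR.Q_le h2) hg'
        rwa [inv_mul_cancel_right] at h3
      have h2 : o2 P₂ ≤ R' := fun q hq =>
        (hmemR' q).mpr ⟨hOP hq, by rw [(hmemN ⟨q, hOP hq⟩).mpr hq]; exact one_mem _⟩
      have h3 : S ≤ normalizer (R' : Set G) := by
        refine le_normalizer_of fun s hs g hg => ?_
        obtain ⟨hgP, hgW⟩ := (hmemR' g).mp hg
        refine (hmemR' _).mpr ⟨mul_mem (mul_mem (h.SP₂ hs) hgP) (inv_mem (h.SP₂ hs)), ?_⟩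
        have h4 : φ ⟨s, h.SP₂ hs⟩ ∈ T := ⟨_, hs, rfl⟩
        have h5 := conj_mem_of_le hTW h4 hgW
        rw [← map_inv, ← map_mul, ← map_mul] at h5
        exact h5
      have h4 : R' ≠ R := by
        intro h5
        apply hWne
        refine le_antisymm hWK ?_
        intro k hk
        obtain ⟨g, hg, rfl⟩ := hKmem k hk
        rw [← h5] at hg
        exact ((hmemR' g).mp hg).2
      obtain ⟨g, hg, rfl⟩ : ∃ (g : G) (hg : g ∈ P₂), φ ⟨g, hg⟩ = w := by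
        obtain ⟨⟨g, hg⟩, hgw⟩ := hφs w
        exact ⟨g, hg, hgw⟩
      have h5 := hR.min R' h1 h2 h3 h4 g ((hmemR' g).mpr ⟨hg, hw⟩) a haV
      rw [hcomm g hg a haP] at h5
      exact h5.symm)
    (by
      by_contra hcon
      push Not at hcon
      apply hna
      rw [commutator_le]
      intro g hg g' hg'
      exact (hcomm g (hR.le hg) g' (hR.le hg')).mpr (hcon _ (hmemK g hg) _ (hmemK g' hg')))
  obtain ⟨ρ, hρ, rfl⟩ := hKmem t htK
  obtain ⟨g₀, hg₀, rfl⟩ := hKmem k₀ hk₀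
  have hρP := hR.le hρ
  refine ⟨a, ρ, hρ, ?_, ?_⟩
  · refine
      { r_prime := hR.r_prime
        r_ne := hR.r_ne
        xP₂ := hρP
        xne := ?_
        xr := ?_
        V₀_le := inf_le_left
        D_le := le_rfl
        idx := hidx
        cent := ?_
        aV := haV
        inv := ?_ }
    · intro h1
      apply htk
      rw [(hmemN _).mpr h1, one_mul, mul_one]
    · rw [← map_pow] at htr
      exact (hmemN _).mp htr
    · intro v hv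
      have h1 := hO ρ hρP _ (inv_mem hv.2)
      have h2 : v * ρ * v⁻¹ * ρ⁻¹ = v * (ρ * v⁻¹ * ρ⁻¹) := by group
      rw [h2]
      exact mul_mem hv.2 h1
    · have h1 : φ ⟨a, haP⟩ * φ ⟨ρ, hρP⟩ * (φ ⟨a, haP⟩)⁻¹ * φ ⟨ρ, hρP⟩ = 1 := by
        rw [hta, inv_mul_cancel]
      rw [← map_inv, ← map_mul, ← map_mul, ← map_mul] at h1
      exact (hmemN _).mp h1
  · intro q hq hpow
    have hxR : ρ * q ∈ R := mul_mem hρ (hR.Q_le hq)
    obtain ⟨x, hx⟩ : ∃ x, x = ρ * q := ⟨_, rfl⟩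
    rw [← hx] at hpow hxR ⊢
    have hφx : φ ⟨x, hR.le hxR⟩ = φ ⟨ρ, hρP⟩ := by
      have h1 : φ (⟨ρ, hρP⟩ * ⟨q, hOP hq⟩) = φ ⟨ρ, hρP⟩ := by
        rw [map_mul, (hmemN ⟨q, hOP hq⟩).mpr hq, mul_one]
      rw [← h1]
      exact congrArg φ (Subtype.ext hx)
    -- the Sylow subgroup
    let f : R →* (P₂ ⧸ N) := φ.comp (inclusion hR.le)
    have hfr : ∀ g : R, f g = φ ⟨g, hR.le g.2⟩ := fun g => rfl
    have hfp : IsPGroup r f.range := by
      rintro ⟨_, g, rfl⟩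
      obtain ⟨m, hm⟩ := hR.pow g g.2
      refine ⟨m, Subtype.ext ?_⟩
      have h1 : f g ^ r ^ m = 1 := by
        rw [hfr, ← map_pow]
        exact (hmemN _).mpr hm
      exact h1
    have hz : IsPGroup r (zpowers (⟨x, hxR⟩ : R)) := by
      refine IsPGroup.of_card_dvd_pow (n := 1) ?_
      rw [Nat.card_zpowers, pow_one]
      exact orderOf_dvd_of_pow_eq_one (Subtype.ext hpow)
    obtain ⟨P3, hP3⟩ := hz.exists_le_sylow
    have hsur : ∀ g : R, ∃ p ∈ P3, f p = f g := by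
      intro g
      have h1 : (P3.mapSurjective f.rangeRestrict_surjective : Subgroup f.range) = ⊤ := by
        have h2 := (P3.mapSurjective f.rangeRestrict_surjective).is_maximal'
          (hfp.to_subgroup ⊤) le_top
        exact h2.symm
      have h3 : f.rangeRestrict g ∈ (P3.mapSurjective f.rangeRestrict_surjective : Subgroup f.range) := by
        rw [h1]; exact mem_top _
      rw [Sylow.coe_mapSurjective] at h3
      obtain ⟨p, hp, hpg⟩ := h3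
      exact ⟨p, hp, congrArg Subtype.val hpg⟩
    -- injectivity on `P3`
    have hinj : ∀ p ∈ P3, f p = 1 → p = 1 := by
      intro p hp h1
      have h2 : (p : G) ∈ o2 P₂ := (hmemN _).mp h1
      obtain ⟨m, hm⟩ := o2_isPGroup P₂ ⟨p, h2⟩
      have hm' : (p : G) ^ 2 ^ m = 1 := congrArg Subtype.val hm
      obtain ⟨n, hn⟩ := P3.2 ⟨p, hp⟩
      have hn' : (p : G) ^ r ^ n = 1 := congrArg (fun y : P3 => ((y : R) : G)) hn
      have h3 : orderOf (p : G) ∣ 2 ^ m := orderOf_dvd_of_pow_eq_one hm'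
      have h4 : orderOf (p : G) ∣ r ^ n := orderOf_dvd_of_pow_eq_one hn'
      have hcop : Nat.Coprime (2 ^ m) (r ^ n) :=
        Nat.Coprime.pow _ _ ((Nat.coprime_primes Nat.prime_two hR.r_prime).mpr (Ne.symm hR.r_ne))
      have h5 : orderOf (p : G) ∣ 1 := by rw [← hcop]; exact Nat.dvd_gcd h3 h4
      exact Subtype.ext (orderOf_eq_one_iff.mp (Nat.dvd_one.mp h5))
    have hxP3 : (⟨x, hxR⟩ : R) ∈ P3 := hP3 (mem_zpowers _)
    obtain ⟨x₂, hx₂, hfx₂⟩ := hsur ⟨g₀, hg₀⟩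
    have hfx : f ⟨x, hxR⟩ = φ ⟨ρ, hρP⟩ := hφx
    have hfx₂' : f x₂ = φ ⟨g₀, hR.le hg₀⟩ := hfx₂
    set κ : R := ⟨x, hxR⟩ * x₂ * (⟨x, hxR⟩)⁻¹ * x₂⁻¹ with hκ
    have hκP3 : κ ∈ P3 := mul_mem (mul_mem (mul_mem hxP3 hx₂) (inv_mem hxP3)) (inv_mem hx₂)
    have hfκ : f κ = φ ⟨ρ, hρP⟩ * φ ⟨g₀, hR.le hg₀⟩ * (φ ⟨ρ, hρP⟩)⁻¹ * (φ ⟨g₀, hR.le hg₀⟩)⁻¹ := by
      rw [hκ, map_mul, map_mul, map_mul, map_inv, map_inv, hfx, hfx₂']
    have hcen : ∀ p ∈ P3, κ * p = p * κ := by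
      intro p hp
      have h1 : κ * p * κ⁻¹ * p⁻¹ = 1 := by
        apply hinj _ (mul_mem (mul_mem (mul_mem hκP3 hp) (inv_mem hκP3)) (inv_mem hp))
        rw [map_mul, map_mul, map_mul, map_inv, map_inv, mul_inv_eq_one, mul_inv_eq_iff_eq_mul, hfκ]
        exact c1 _ htK _ hk₀ _ (hmemK p p.2)
      rwa [mul_inv_eq_one, mul_inv_eq_iff_eq_mul] at h1
    have hκne : f κ ≠ 1 := by
      intro h1
      rw [hfκ, mul_inv_eq_one, mul_inv_eq_iff_eq_mul] at h1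
      exact htk h1
    refine ⟨x₂, κ, x₂.2, κ.2, rfl, fun h1 => hκne ((hmemN _).mpr h1), ?_,
      congrArg Subtype.val (hcen _ hxP3), congrArg Subtype.val (hcen _ hx₂), ?_⟩
    · -- the order
      have h1 : κ ^ r = 1 := by
        have h2 : x₂ * (⟨x, hxR⟩ : R)⁻¹ * x₂⁻¹ = (⟨x, hxR⟩ : R)⁻¹ * κ := by
          rw [hκ]; group
        have h3 : (x₂ * (⟨x, hxR⟩ : R)⁻¹ * x₂⁻¹) ^ r = 1 := by
          rw [conj_pow, inv_pow]
          have : (⟨x, hxR⟩ : R) ^ r = 1 := Subtype.ext hpow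
          rw [this, inv_one, mul_one, mul_inv_cancel]
        have h4 : Commute (⟨x, hxR⟩ : R)⁻¹ κ := (show Commute κ _ from hcen _ (inv_mem hxP3)).symm
        rw [h2, h4.mul_pow, inv_pow] at h3
        have : (⟨x, hxR⟩ : R) ^ r = 1 := Subtype.ext hpow
        rwa [this, inv_one, one_mul] at h3
      exact congrArg Subtype.val h1
    · rw [hcomm a haP κ (hR.le κ.2)]
      have h1 : φ ⟨(κ : G), hR.le κ.2⟩ = f κ := rfl
      rw [h1, hfκ]
      exact c2 _ htK _ hk₀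

end Cfsg.Agent.MinSimple.CaseD.BZero
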