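import Mathlib
import Cfsg.Agent.Transfer.ElemAbAut
import Cfsg.Agent.Solvable.Hall

/-!
# No solvable subgroup of `GL_4(2)` is transitive on the 15 vectors and has order divisible by 9

`false_of_transitive`: the end of case (d) of the core theorem, step (S7).
-/

set_option autoImplicit false

namespace Cfsg.Agent.MinSimple.CaseD.GL42

open Subgroup

theorem card_dvd_of_free {E X : Type*} [Group E] [Finite E] [MulAction E X] [Finite X]
    (h : ∀ (z : E) (x : X), z • x = x → z = 1) : Nat.card E ∣ Nat.card X := by
  classical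
  have _ := Fintype.ofFinite E
  have _ := Fintype.ofFinite X
  have e := MulAction.selfEquivSigmaOrbits E X
  rw [Nat.card_congr e, Nat.card_sigma]
  refine Finset.dvd_sum fun ω _ => ?_
  have h1 : Nat.card (MulAction.orbit E (Quotient.out ω : X)) = Nat.card E := by
    refine (Nat.card_congr (Equiv.ofBijective
      (fun z : E => (⟨z • (Quotient.out ω : X), MulAction.mem_orbit _ z⟩ :
        MulAction.orbit E (Quotient.out ω : X))) ⟨?_, ?_⟩)).symm
    · intro z w hzw
      have h2 : z • (Quotient.out ω : X) = w • (Quotient.out ω : X) := congrArg Subtype.val hzw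
      have h3 : (w⁻¹ * z) • (Quotient.out ω : X) = Quotient.out ω := by
        rw [mul_smul, h2, ← mul_smul, inv_mul_cancel, one_smul]
      have h4 := h _ _ h3
      exact (inv_mul_eq_one.1 h4).symm
    · rintro ⟨y, z, rfl⟩
      exact ⟨z, rfl⟩
  rw [h1]

/-- A group of automorphisms acting freely on the nonidentity elements. -/
theorem card_dvd_sub_one {E V : Type*} [Group E] [Finite E] [Group V] [Finite V]
    (φ : E →* MulAut V) (hfree : ∀ z : E, z ≠ 1 → ∀ v : V, φ z v = v → v = 1) :
    Nat.card E ∣ Nat.card V - 1 := by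
  classical
  let X := {w : V // w ≠ 1}
  let act : MulAction E X :=
    { smul := fun z w => ⟨φ z w.1, fun h => w.2 ((φ z).map_eq_one_iff.1 h)⟩
      one_smul := fun w => Subtype.ext (by
        show φ 1 w.1 = w.1
        rw [map_one]; rfl)
      mul_smul := fun a b w => Subtype.ext (by
        show φ (a * b) w.1 = φ a (φ b w.1)
        rw [map_mul]; rfl) }
  have h1 : Nat.card E ∣ Nat.card X := by
    refine card_dvd_of_free fun z w hzw => ?_
    by_contra hz
    exact w.2 (hfree z hz _ (congrArg Subtype.val hzw))
  have h2 : Nat.card X = Nat.card V - 1 := by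
    have _ := Fintype.ofFinite V
    rw [Nat.card_eq_fintype_card, Fintype.card_subtype_compl, Fintype.card_subtype_eq,
      Nat.card_eq_fintype_card]
  rwa [h2] at h1

/-- A group of order 45 does not act faithfully on an elementary abelian group of order 16. -/
theorem false_of_card {K V : Type*} [Group K] [Finite K] [Group V] [Finite V]
    (hV : Nat.card V = 16) (φ : K →* MulAut V) (hφ : Function.Injective φ)
    (hK : Nat.card K = 45) : False := by
  classical
  have _ : Fact (Nat.Prime 5) := ⟨by norm_num⟩
  have _ : Fact (Nat.Prime 3) := ⟨by norm_num⟩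
  -- the Sylow 5-subgroup is normal
  let P : Sylow 5 K := default
  have hPc : Nat.card P = 5 := by
    have := P.card_eq_multiplicity
    rw [hK] at this
    rw [this]
    have : Nat.factorization 45 5 = 1 := by
      rw [show (45 : ℕ) = 5 * 9 by norm_num, Nat.factorization_mul (by norm_num) (by norm_num)]
      simp [Nat.Prime.factorization_self (show Nat.Prime 5 by norm_num),
        Nat.factorization_eq_zero_of_not_dvd (show ¬ 5 ∣ 9 by norm_num)]
    rw [this, pow_one]
  have hPi : (P : Subgroup K).index = 9 := by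
    have h1 := (P : Subgroup K).card_mul_index
    have h2 : Nat.card (P : Subgroup K) = 5 := hPc
    rw [h2, hK] at h1
    omega
  have hn : Nat.card (Sylow 5 K) = 1 := by
    have h1 : Nat.card (Sylow 5 K) ∣ 9 := by
      rw [← hPi]; exact P.card_dvd_index
    have h2 : Nat.card (Sylow 5 K) ≡ 1 [MOD 5] := card_sylow_modEq_one 5 K
    have h3 : Nat.card (Sylow 5 K) ≤ 9 := Nat.le_of_dvd (by norm_num) h1
    unfold Nat.ModEq at h2
    interval_cases h : Nat.card (Sylow 5 K) <;> omega
  have hPn : (P : Subgroup K).Normal := by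
    have : Subsingleton (Sylow 5 K) := (Nat.card_eq_one_iff_unique.1 hn).1
    exact P.normal_of_subsingleton
  -- a Sylow 3-subgroup
  let T : Sylow 3 K := default
  have hTc : Nat.card T = 9 := by
    have := T.card_eq_multiplicity
    rw [hK] at this
    rw [this]
    have : Nat.factorization 45 3 = 2 := by
      rw [show (45 : ℕ) = 3 ^ 2 * 5 by norm_num, Nat.factorization_mul (by norm_num) (by norm_num),
        Nat.Prime.factorization_pow (show Nat.Prime 3 by norm_num)]
      simp [Nat.factorization_eq_zero_of_not_dvd (show ¬ 3 ∣ 5 by norm_num)]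
    rw [this]; norm_num
  -- `T` centralizes `P`
  have hcent : ∀ t ∈ (T : Subgroup K), ∀ f ∈ (P : Subgroup K), t * f = f * t := by
    intro t ht f hf
    have h1 : Nat.card (MulAut (P : Subgroup K)) = 4 := by
      have h2 : Nat.card (P : Subgroup K) = 5 ^ 1 := by rw [pow_one]; exact hPc
      have h3 : IsCyclic (P : Subgroup K) := isCyclic_of_prime_card (p := 5) hPc
      rw [Cfsg.Agent.Transfer.ElemAbAut.card_mulAut 5 1
        (fun x y => (IsCyclic.isMulCommutative.is_comm.comm x y)) (fun x => by
          have := orderOf_dvd_natCard x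
          rw [hPc] at this
          exact orderOf_dvd_iff_pow_eq_one.1 this) h2]
      simp
    let ψ : (T : Subgroup K) →* MulAut (P : Subgroup K) :=
      (MulAut.conjNormal (H := (P : Subgroup K))).comp (T : Subgroup K).subtype
    have h2 : ψ ⟨t, ht⟩ = 1 := by
      have h3 : orderOf (ψ ⟨t, ht⟩) ∣ 9 := by
        refine (orderOf_map_dvd ψ _).trans ?_
        rw [← hTc]; exact orderOf_dvd_natCard _
      have h4 : orderOf (ψ ⟨t, ht⟩) ∣ 4 := by
        rw [← h1]; exact orderOf_dvd_natCard _
      have h5 : orderOf (ψ ⟨t, ht⟩) ∣ 1 := by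
        have := Nat.dvd_gcd h3 h4
        norm_num at this
        exact Nat.dvd_one.2 (by simpa using this)
      exact orderOf_eq_one_iff.1 (Nat.dvd_one.1 h5)
    have h3 : (ψ ⟨t, ht⟩) ⟨f, hf⟩ = ⟨f, hf⟩ := by rw [h2]; rfl
    have h4 : t * f * t⁻¹ = f := congrArg Subtype.val h3
    rw [mul_inv_eq_iff_eq_mul] at h4
    exact h4
  -- `P` acts without fixed points
  let C : Subgroup V :=
    { carrier := {v | ∀ f ∈ (P : Subgroup K), φ f v = v}
      one_mem' := fun f _ => map_one _
      mul_mem' := fun {a b} ha hb f hf => by rw [map_mul, ha f hf, hb f hf]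
      inv_mem' := fun {a} ha f hf => by rw [map_inv, ha f hf] }
  have hmod : ∀ W : Subgroup V, (∀ f ∈ (P : Subgroup K), ∀ w ∈ W, φ f w ∈ W) →
      Nat.card W ≡ Nat.card (W ⊓ C : Subgroup V) [MOD 5] := by
    intro W hW
    let act : MulAction (P : Subgroup K) W :=
      { smul := fun f w => ⟨φ f w, hW f f.2 w w.2⟩
        one_smul := fun w => Subtype.ext (by
          show φ 1 w.1 = w.1
          rw [map_one]; rfl)
        mul_smul := fun a b w => Subtype.ext (by
          show φ (a * b) w.1 = φ a (φ b w.1)
          rw [map_mul]; rfl) }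
    have h1 := P.isPGroup'.card_modEq_card_fixedPoints W
    have h2 : Nat.card (MulAction.fixedPoints (P : Subgroup K) W) =
        Nat.card (W ⊓ C : Subgroup V) := by
      refine Nat.card_congr
        { toFun := fun w => ⟨w.1.1, w.1.2, fun f hf => congrArg Subtype.val (w.2 ⟨f, hf⟩)⟩
          invFun := fun w => ⟨⟨w.1, w.2.1⟩, fun f => Subtype.ext (w.2.2 f f.2)⟩
          left_inv := fun _ => rfl
          right_inv := fun _ => rfl }
    rwa [h2] at h1
  have hdiv : ∀ W : Subgroup V, Nat.card W ≡ 1 [MOD 5] → W ≠ ⊥ → W = ⊤ := by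
    intro W hW hW1
    have h1 : Nat.card W ∣ 16 := by rw [← hV]; exact card_subgroup_dvd_card W
    have h2 : Nat.card W ≤ 16 := Nat.le_of_dvd (by norm_num) h1
    have h3 : Nat.card W ≠ 1 := fun h => hW1 (Subgroup.card_eq_one.1 h)
    apply Subgroup.eq_top_of_card_eq
    rw [hV]
    unfold Nat.ModEq at hW
    interval_cases h : Nat.card W <;> omega
  have hC : C = ⊥ := by
    by_contra hne
    have h1 := hmod ⊤ (fun _ _ _ _ => mem_top _)
    rw [top_inf_eq, Subgroup.card_top, hV] at h1
    have h2 : C = ⊤ := hdiv C (by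
      refine h1.symm.trans ?_
      decide) hne
    have h3 : (P : Subgroup K) = ⊥ := by
      rw [eq_bot_iff]
      intro f hf
      rw [mem_bot]
      apply hφ
      rw [map_one]
      ext v
      have : v ∈ C := by rw [h2]; trivial
      exact this f hf
    have h4 : Nat.card (P : Subgroup K) = 5 := hPc
    rw [h3, Subgroup.card_bot] at h4
    omega
  have hPfix : ∀ W : Subgroup V, (∀ f ∈ (P : Subgroup K), ∀ w ∈ W, φ f w ∈ W) → W ≠ ⊥ →
      W = ⊤ := by
    intro W hW hW1
    refine hdiv W ?_ hW1
    have h1 := hmod W hW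
    rwa [hC, inf_bot_eq, Subgroup.card_bot] at h1
  -- `T` acts freely
  have hfree : ∀ t : (T : Subgroup K), t ≠ 1 → ∀ v : V, (φ.comp (T : Subgroup K).subtype) t v = v →
      v = 1 := by
    intro t ht v hv
    by_contra hv1
    let W : Subgroup V :=
      { carrier := {w | φ (t : K) w = w}
        one_mem' := map_one _
        mul_mem' := fun {a b} ha hb => by
          show φ (t : K) (a * b) = a * b
          rw [map_mul, show φ (t : K) a = a from ha, show φ (t : K) b = b from hb]
        inv_mem' := fun {a} ha => by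
          show φ (t : K) a⁻¹ = a⁻¹
          rw [map_inv, show φ (t : K) a = a from ha] }
    have hW : W = ⊤ := by
      refine hPfix W ?_ ?_
      · intro f hf w hw
        show φ (t : K) (φ f w) = φ f w
        have h1 : φ (t : K) w = w := hw
        have h2 : φ ((t : K) * f) w = φ (f * (t : K)) w := by rw [hcent t t.2 f hf]
        rw [map_mul, map_mul] at h2
        have h3 : φ (t : K) (φ f w) = φ f (φ (t : K) w) := h2
        rw [h3, h1]
      · intro hb
        have : v ∈ W := hv
        rw [hb, mem_bot] at this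
        exact hv1 this
    apply ht
    apply Subtype.ext
    apply hφ
    rw [OneMemClass.coe_one, map_one]
    ext w
    have : w ∈ W := by rw [hW]; trivial
    exact this
  have hT := card_dvd_sub_one (φ.comp (T : Subgroup K).subtype) hfree
  have hT' : Nat.card (T : Subgroup K) = 9 := hTc
  rw [hT', hV] at hT
  omega

/-- **(S7), last step.** -/
theorem false_of_transitive {H : Type*} [Group H] [Finite H] (hsol : Group.IsSolvable H)
    (V : Subgroup H) (hVn : V.Normal) (hV : Nat.card V = 16)
    (hVc : ∀ x ∈ V, ∀ y ∈ V, x * y = y * x) (hVs : ∀ x ∈ V, x * x = 1)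
    (h9 : 9 ∣ (centralizer (V : Set H)).index)
    (htr : ∀ x ∈ V, ∀ y ∈ V, x ≠ 1 → y ≠ 1 → ∃ h, h * x * h⁻¹ = y) : False := by
  classical
  let φ : H →* MulAut V := MulAut.conjNormal
  have hker : φ.ker = centralizer (V : Set H) := by
    ext h
    rw [MonoidHom.mem_ker, mem_centralizer_iff]
    constructor
    · intro hh v hv
      have h1 : φ h ⟨v, hv⟩ = ⟨v, hv⟩ := by rw [hh]; rfl
      have h2 : h * v * h⁻¹ = v := congrArg Subtype.val h1
      rw [mul_inv_eq_iff_eq_mul] at h2
      exact h2.symm
    · intro hh
      ext v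
      show h * (v : H) * h⁻¹ = v
      rw [← hh v v.2, mul_inv_cancel_right]
  have hrs : Group.IsSolvable φ.range := Group.isSolvable_of_surjective φ.rangeRestrict_surjective
  have hR9 : 9 ∣ Nat.card φ.range := by
    rwa [← Subgroup.index_ker, hker]
  have hR20160 : Nat.card φ.range ∣ 20160 := by
    have h1 : Nat.card (MulAut V) = 20160 := by
      rw [Cfsg.Agent.Transfer.ElemAbAut.card_mulAut 2 4
        (fun x y => Subtype.ext (hVc x x.2 y y.2)) (fun x => by
          rw [pow_two]; exact Subtype.ext (hVs x x.2)) (by rw [hV]; norm_num)]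
      simp [Fin.prod_univ_succ]
    rw [← h1]
    exact card_subgroup_dvd_card _
  have hR15 : 15 ∣ Nat.card φ.range := by
    let X := {w : V // w ≠ 1}
    let act : MulAction φ.range X :=
      { smul := fun z w => ⟨z.1 w.1, fun h => w.2 (z.1.map_eq_one_iff.1 h)⟩
        one_smul := fun w => rfl
        mul_smul := fun a b w => rfl }
    have h2 : Nat.card X = 15 := by
      have _ := Fintype.ofFinite V
      have : Nat.card X = Nat.card V - 1 := by
        rw [Nat.card_eq_fintype_card, Fintype.card_subtype_compl, Fintype.card_subtype_eq,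
          Nat.card_eq_fintype_card]
      rw [this, hV]
    have hne : Nonempty X := by
      have : Nat.card X ≠ 0 := by rw [h2]; norm_num
      exact (Nat.card_ne_zero.1 this).1
    obtain ⟨x⟩ := hne
    have h3 : MulAction.orbit φ.range x = Set.univ := by
      ext y
      simp only [Set.mem_univ, iff_true]
      obtain ⟨h, hh⟩ := htr x.1 x.1.2 y.1 y.1.2 (fun e => x.2 (Subtype.ext e))
        (fun e => y.2 (Subtype.ext e))
      exact ⟨⟨φ h, h, rfl⟩, Subtype.ext (Subtype.ext hh)⟩
    have h4 := MulAction.index_stabilizer φ.range x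
    rw [h3, Set.ncard_univ, h2] at h4
    rw [← h4]
    exact Subgroup.index_dvd_card _
  have hR45 : 45 ∣ Nat.card φ.range := by
    have : Nat.lcm 9 15 ∣ Nat.card φ.range := Nat.lcm_dvd hR9 hR15
    exact this
  obtain ⟨n, hn⟩ := hR45
  have hcop : Nat.Coprime 45 n := by
    have h1 : n ∣ 448 := by
      have : 45 * n ∣ 45 * 448 := by rw [← hn]; exact hR20160
      exact Nat.dvd_of_mul_dvd_mul_left (by norm_num) this
    exact Nat.Coprime.coprime_dvd_right h1 (by norm_num)
  obtain ⟨K, hK⟩ := Cfsg.Agent.Solvable.Hall.hall_exists (G := φ.range) 45 n hn hcop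
  exact false_of_card hV ((φ.range.subtype).comp K.subtype)
    ((Subgroup.subtype_injective _).comp (Subgroup.subtype_injective _)) hK

end Cfsg.Agent.MinSimple.CaseD.GL42
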