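import Mathlib
import Cfsg.Agent.MinSimple.CaseD.GL42
import Cfsg.Agent.MinSimple.CaseDDefs
import Cfsg.Agent.Lib.ProductSet

/-!
# Case (d), step (5b): the end

`false_of_kappa` : there is no element `κ` of odd order in `N_G(V)` which normalises `V₀` and whose
fixed points on `V₀` are `1` and `z` (`PD` data): `N_G(V)` would be transitive on `V ∖ 1`.
-/

set_option autoImplicit false

namespace Cfsg.Agent.MinSimple.CaseD.KappaEnd

open Subgroup Cfsg Cfsg.Agent.ZN Cfsg.Agent.MinSimple.CaseDDefs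
open scoped Pointwise

section Abstract

variable {V : Type*} [CommGroup V]

/-- Elements of a group of order four and exponent two. -/
theorem four {A : Subgroup V} (hA : Nat.card A = 4) {a b x : V} (ha : a ∈ A) (hb : b ∈ A)
    (hx : x ∈ A) (ha1 : a ≠ 1) (hb1 : b ≠ 1) (hab : a ≠ b) (haa : a * a = 1) :
    x = 1 ∨ x = a ∨ x = b ∨ x = a * b := by
  classical
  by_contra hcon
  push Not at hcon
  obtain ⟨h1, h2, h3, h4⟩ := hcon
  have hfin : Finite A := Nat.finite_of_card_ne_zero (by rw [hA]; norm_num)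
  have hab1 : a * b ≠ 1 := fun h => hab (by
    have : a * (a * b) = a * 1 := by rw [h]
    rw [← mul_assoc, haa, one_mul, mul_one] at this
    exact this.symm)
  have h5 : a * b ≠ a := fun h => hb1 (mul_eq_left.mp h)
  have h6 : a * b ≠ b := fun h => ha1 (mul_eq_right.mp h)
  let s : Finset A := {1, ⟨a, ha⟩, ⟨b, hb⟩, ⟨a * b, mul_mem ha hb⟩, ⟨x, hx⟩}
  have hs : s.card = 5 := by
    simp only [s]
    rw [Finset.card_insert_of_notMem, Finset.card_insert_of_notMem, Finset.card_insert_of_notMem,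
      Finset.card_insert_of_notMem, Finset.card_singleton]
    all_goals
      simp only [Finset.mem_insert, Finset.mem_singleton, Subtype.ext_iff, OneMemClass.coe_one]
      push Not
    · exact fun h => h4 h.symm
    · exact ⟨h6.symm, fun h => h3 h.symm⟩
    · exact ⟨hab, h5.symm, fun h => h2 h.symm⟩
    · exact ⟨ha1.symm, hb1.symm, hab1.symm, fun h => h1 h.symm⟩
  have h7 : s.card ≤ Nat.card A := by
    have := Fintype.ofFinite A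
    rw [Nat.card_eq_fintype_card]
    exact Finset.card_le_univ s
  omega

/-- The abstract data. -/
structure Dat (Y₁ Y₂ B : MulAut V) : Prop where
  card : Nat.card V = 16
  sq : ∀ v : V, v * v = 1
  y₁ : ∀ v, Y₁ (Y₁ v) = v * Y₁ v
  y₂ : ∀ v, Y₂ (Y₂ v) = v * Y₂ v
  comm : ∀ v, Y₂ (Y₁ v) = Y₁ (Y₂ v)
  f₁ : ∀ v, Y₁ v = v → v = 1
  b₁ : ∀ v, B (Y₁ v) = B v * Y₁ (B v)
  b₂ : ∀ v, B (Y₂ v) = Y₂ (B v)

variable {Y₁ Y₂ B K : MulAut V}

/-- `C_V(y₁ y₂)`. -/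
def A₁ (Y₁ Y₂ : MulAut V) : Subgroup V where
  carrier := {v | Y₂ v = v * Y₁ v}
  one_mem' := by simp
  mul_mem' {a b} ha hb := by
    simp only [Set.mem_ofPred_eq, map_mul] at ha hb ⊢
    rw [ha, hb]; exact mul_mul_mul_comm _ _ _ _
  inv_mem' {a} ha := by
    simp only [Set.mem_ofPred_eq, map_inv] at ha ⊢
    rw [ha, mul_inv]

/-- `C_V(y₁ y₂⁻¹)`. -/
def A₂ (Y₁ Y₂ : MulAut V) : Subgroup V where
  carrier := {v | Y₂ v = Y₁ v}
  one_mem' := by simp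
  mul_mem' {a b} ha hb := by
    simp only [Set.mem_ofPred_eq, map_mul] at ha hb ⊢
    rw [ha, hb]
  inv_mem' {a} ha := by
    simp only [Set.mem_ofPred_eq, map_inv] at ha ⊢
    rw [ha]

theorem mem_A₁ {v : V} : v ∈ A₁ Y₁ Y₂ ↔ Y₂ v = v * Y₁ v := Iff.rfl
theorem mem_A₂ {v : V} : v ∈ A₂ Y₁ Y₂ ↔ Y₂ v = Y₁ v := Iff.rfl

namespace Dat

variable (h : Dat Y₁ Y₂ B)
include h

theorem mul_cancel (a b : V) : a * (a * b) = b := by rw [← mul_assoc, h.sq, one_mul]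

theorem inv_eq (a : V) : a⁻¹ = a := inv_eq_of_mul_eq_one_left (h.sq a)

theorem inf_eq : A₁ Y₁ Y₂ ⊓ A₂ Y₁ Y₂ = ⊥ := by
  rw [eq_bot_iff]
  rintro v ⟨h1, h2⟩
  have h1 : Y₂ v = v * Y₁ v := h1
  have h2 : Y₂ v = Y₁ v := h2
  rw [h2] at h1
  exact mul_eq_right.mp h1.symm

theorem split (v : V) : Y₂ v * Y₁ v ∈ A₁ Y₁ Y₂ ∧ Y₂ v * (v * Y₁ v) ∈ A₂ Y₁ Y₂ ∧
    v = (Y₂ v * Y₁ v) * (Y₂ v * (v * Y₁ v)) := by
  refine ⟨?_, ?_, ?_⟩
  · rw [mem_A₁]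
    simp only [map_mul, h.y₁, h.y₂, h.comm]
    calc v * Y₂ v * Y₁ (Y₂ v) = v * Y₂ v * Y₁ (Y₂ v) * (Y₁ v * Y₁ v) := by rw [h.sq, mul_one]
      _ = Y₂ v * Y₁ v * (Y₁ (Y₂ v) * (v * Y₁ v)) := by
        simp only [mul_comm, mul_left_comm, mul_assoc]
  · rw [mem_A₂]
    simp only [map_mul, h.y₁, h.y₂, h.comm]
    calc v * Y₂ v * (Y₂ v * Y₁ (Y₂ v)) = v * Y₁ (Y₂ v) * (Y₂ v * Y₂ v) := by
          simp only [mul_comm, mul_left_comm, mul_assoc]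
      _ = v * Y₁ (Y₂ v) * (Y₁ v * Y₁ v) := by rw [h.sq, h.sq]
      _ = Y₁ (Y₂ v) * (Y₁ v * (v * Y₁ v)) := by simp only [mul_comm, mul_left_comm, mul_assoc]
  · calc v = v * (Y₂ v * Y₂ v) * (Y₁ v * Y₁ v) := by rw [h.sq, h.sq, mul_one, mul_one]
      _ = (Y₂ v * Y₁ v) * (Y₂ v * (v * Y₁ v)) := by simp only [mul_comm, mul_left_comm, mul_assoc]

theorem B₁ {v : V} (hv : v ∈ A₁ Y₁ Y₂) : B v ∈ A₂ Y₁ Y₂ := by
  rw [mem_A₁] at hv
  rw [mem_A₂, ← h.b₂, hv, map_mul, h.b₁, h.mul_cancel]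

theorem B₂ {v : V} (hv : v ∈ A₂ Y₁ Y₂) : B v ∈ A₁ Y₁ Y₂ := by
  rw [mem_A₂] at hv
  rw [mem_A₁, ← h.b₂, hv, h.b₁]

theorem Y₁₁ {v : V} (hv : v ∈ A₁ Y₁ Y₂) : Y₁ v ∈ A₁ Y₁ Y₂ := by
  rw [mem_A₁] at hv ⊢
  rw [h.comm, hv, map_mul]

theorem Y₁₂ {v : V} (hv : v ∈ A₂ Y₁ Y₂) : Y₁ v ∈ A₂ Y₁ Y₂ := by
  rw [mem_A₂] at hv ⊢
  rw [h.comm, hv]

theorem card_A : Nat.card (A₁ Y₁ Y₂) = 4 ∧ Nat.card (A₂ Y₁ Y₂) = 4 := by
  have hfin : Finite V := Nat.finite_of_card_ne_zero (by rw [h.card]; norm_num)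
  have h1 := Cfsg.Agent.Lib.ProductSet.card_mul_card_inf (A₁ Y₁ Y₂) (A₂ Y₁ Y₂)
  have h2 : ((A₁ Y₁ Y₂ : Set V) * (A₂ Y₁ Y₂ : Set V)) = Set.univ := by
    rw [Set.eq_univ_iff_forall]
    intro v
    obtain ⟨h3, h4, h5⟩ := h.split v
    exact ⟨_, h3, _, h4, h5.symm⟩
  rw [h.inf_eq, card_bot, mul_one, h2] at h1
  have h3 : Nat.card (Set.univ : Set V) = 16 := by
    rw [Nat.card_univ, h.card]
  rw [h3] at h1
  have h4 : Nat.card (A₁ Y₁ Y₂) ≤ Nat.card (A₂ Y₁ Y₂) :=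
    Nat.card_le_card_of_injective (fun v : A₁ Y₁ Y₂ => (⟨B v, h.B₁ v.2⟩ : A₂ Y₁ Y₂))
      (fun a b hab => Subtype.ext (B.injective (congrArg Subtype.val hab)))
  have h5 : Nat.card (A₂ Y₁ Y₂) ≤ Nat.card (A₁ Y₁ Y₂) :=
    Nat.card_le_card_of_injective (fun v : A₂ Y₁ Y₂ => (⟨B v, h.B₂ v.2⟩ : A₁ Y₁ Y₂))
      (fun a b hab => Subtype.ext (B.injective (congrArg Subtype.val hab)))
  have h6 : Nat.card (A₁ Y₁ Y₂) = Nat.card (A₂ Y₁ Y₂) := le_antisymm h4 h5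
  rw [← h6] at h1
  have h7 : Nat.card (A₁ Y₁ Y₂) * Nat.card (A₁ Y₁ Y₂) = 4 * 4 := by omega
  have h8 : Nat.card (A₁ Y₁ Y₂) = 4 := Nat.mul_self_inj.mp h7
  exact ⟨h8, h6 ▸ h8⟩

/-- `y₁` is transitive on the nontrivial elements of an invariant subgroup of order four. -/
theorem trans {A : Subgroup V} (hA : Nat.card A = 4) (hY : ∀ v ∈ A, Y₁ v ∈ A) {a x : V}
    (ha : a ∈ A) (hx : x ∈ A) (ha1 : a ≠ 1) (hx1 : x ≠ 1) :
    x = a ∨ x = Y₁ a ∨ x = Y₁ (Y₁ a) := by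
  have h1 : Y₁ a ≠ 1 := fun h1 => ha1 (Y₁.map_eq_one_iff.mp h1)
  rcases four hA ha (hY a ha) hx ha1 h1 (fun h2 => ha1 (h.f₁ a h2.symm)) (h.sq a) with
    h2 | h2 | h2 | h2
  · exact absurd h2 hx1
  · exact Or.inl h2
  · exact Or.inr (Or.inl h2)
  · rw [h.y₁]; exact Or.inr (Or.inr h2)

/-- The element `y₁` cubed is trivial. -/
theorem cube (v : V) : Y₁ (Y₁ (Y₁ v)) = v := by
  rw [h.y₁ (Y₁ v), h.y₁ v, mul_comm v, h.mul_cancel]

/-- Transitivity on the elements outside `A₁ ∪ A₂`. -/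
theorem trans_nine {Γ : Subgroup (MulAut V)} (h₁ : Y₁ ∈ Γ) (h₂ : Y₂ ∈ Γ) {x x' : V}
    (hx₁ : x ∉ A₁ Y₁ Y₂) (hx₂ : x ∉ A₂ Y₁ Y₂) (hx'₁ : x' ∉ A₁ Y₁ Y₂) (hx'₂ : x' ∉ A₂ Y₁ Y₂) :
    ∃ g ∈ Γ, g x = x' := by
  obtain ⟨hc₁, hc₂⟩ := h.card_A
  have key : ∀ x : V, x ∉ A₁ Y₁ Y₂ → x ∉ A₂ Y₁ Y₂ → ∃ u ∈ A₁ Y₁ Y₂, ∃ w ∈ A₂ Y₁ Y₂,
      u ≠ 1 ∧ w ≠ 1 ∧ x = u * w := by
    intro x h1 h2
    obtain ⟨h3, h4, h5⟩ := h.split x
    refine ⟨_, h3, _, h4, ?_, ?_, h5⟩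
    · intro h6
      rw [h6, one_mul] at h5
      exact h2 (h5 ▸ h4)
    · intro h6
      rw [h6, mul_one] at h5
      exact h1 (h5 ▸ h3)
  obtain ⟨u, hu, w, hw, hu1, hw1, rfl⟩ := key x hx₁ hx₂
  obtain ⟨u', hu', w', hw', hu'1, hw'1, rfl⟩ := key x' hx'₁ hx'₂
  -- `T = y₁ y₂` is trivial on `A₁`, `S = y₁ y₂²` is trivial on `A₂`
  have hT₁ : ∀ v ∈ A₁ Y₁ Y₂, (Y₁ * Y₂) v = v := by
    intro v hv
    rw [MulAut.mul_apply, mem_A₁.mp hv, map_mul, h.y₁, mul_comm v, h.mul_cancel]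
  have hT₂ : ∀ v ∈ A₂ Y₁ Y₂, (Y₁ * Y₂) v = Y₁ (Y₁ v) := by
    intro v hv
    rw [MulAut.mul_apply, mem_A₂.mp hv]
  have hS₁ : ∀ v ∈ A₁ Y₁ Y₂, (Y₁ * Y₂ * Y₂) v = Y₁ (Y₁ v) := by
    intro v hv
    rw [MulAut.mul_apply, MulAut.mul_apply, h.y₂, mem_A₁.mp hv, h.mul_cancel]
  have hS₂ : ∀ v ∈ A₂ Y₁ Y₂, (Y₁ * Y₂ * Y₂) v = v := by
    intro v hv
    rw [MulAut.mul_apply, MulAut.mul_apply, h.y₂, mem_A₂.mp hv, map_mul, h.y₁, mul_comm v,
      h.mul_cancel]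
  have hstep : ∀ (T : MulAut V) (A C : Subgroup V) (_ : T ∈ Γ) (_ : ∀ v ∈ C, T v = v)
      (_ : ∀ v ∈ A, T v = Y₁ (Y₁ v)) (_ : ∀ v ∈ A, Y₁ v ∈ A) (_ : Nat.card A = 4)
      (a a' : V) (_ : a ∈ A) (_ : a' ∈ A) (_ : a ≠ 1) (_ : a' ≠ 1),
      ∃ g ∈ Γ, g a = a' ∧ ∀ v ∈ C, g v = v := by
    intro T A C hT hC hA hY hcard a a' ha ha' ha1 ha'1
    rcases h.trans hcard hY ha ha' ha1 ha'1 with h1 | h1 | h1
    · exact ⟨1, one_mem _, h1.symm, fun v _ => rfl⟩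
    · refine ⟨T * T, mul_mem hT hT, ?_, fun v hv => ?_⟩
      · rw [MulAut.mul_apply, hA a ha, hA _ (hY _ (hY a ha)), h.cube, h1]
      · rw [MulAut.mul_apply, hC v hv, hC v hv]
    · exact ⟨T, hT, by rw [hA a ha, h1], hC⟩
  obtain ⟨g, hg, hgu, hgv⟩ := hstep (Y₁ * Y₂ * Y₂) (A₁ Y₁ Y₂) (A₂ Y₁ Y₂)
    (mul_mem (mul_mem h₁ h₂) h₂) hS₂ hS₁ (fun v hv => h.Y₁₁ hv) hc₁ u u' hu hu' hu1 hu'1
  obtain ⟨f, hf, hfw, hfv⟩ := hstep (Y₁ * Y₂) (A₂ Y₁ Y₂) (A₁ Y₁ Y₂)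
    (mul_mem h₁ h₂) hT₁ hT₂ (fun v hv => h.Y₁₂ hv) hc₂ w w' hw hw' hw1 hw'1
  refine ⟨f * g, mul_mem hf hg, ?_⟩
  rw [MulAut.mul_apply, map_mul, map_mul, hgu, hgv w hw, hfv u' hu', hfw]

/-- A subgroup of index two meets `A₁` in a group of order two. -/
theorem exists_inf {D A : Subgroup V} (hD : Nat.card D = 8) (hA : Nat.card A = 4)
    (hY : ∀ v ∈ A, Y₁ v ∈ A) : ∃ u ∈ A, u ∈ D ∧ u ≠ 1 := by
  have hfin : Finite V := Nat.finite_of_card_ne_zero (by rw [h.card]; norm_num)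
  have hidx : D.index = 2 := by
    have := D.card_mul_index
    rw [hD, h.card] at this
    omega
  have hne : A ≠ ⊥ := by
    intro h1
    rw [h1, card_bot] at hA
    norm_num at hA
  obtain ⟨⟨a, ha⟩, ha1⟩ := Subgroup.ne_bot_iff_exists_ne_one.mp hne
  have ha1' : (a : V) ≠ 1 := fun h1 => ha1 (Subtype.ext h1)
  by_cases h1 : (a : V) ∈ D
  · exact ⟨a, ha, h1, ha1'⟩
  by_cases h2 : Y₁ a ∈ D
  · exact ⟨Y₁ a, hY _ ha, h2, fun h3 => ha1' (Y₁.map_eq_one_iff.mp h3)⟩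
  · refine ⟨a * Y₁ a, mul_mem ha (hY _ ha), (mul_mem_iff_of_index_two hidx).mpr
      ⟨fun h3 => absurd h3 h1, fun h3 => absurd h3 h2⟩, ?_⟩
    intro h3
    apply ha1'
    apply h.f₁
    have := h.mul_cancel (a : V) (Y₁ a)
    rw [h3, mul_one] at this
    exact this.symm

theorem unique_inf {D A : Subgroup V} (hA : Nat.card A = 4) (hAD : ¬ A ≤ D) {u v : V}
    (hu : u ∈ A) (hv : v ∈ A) (huD : u ∈ D) (hvD : v ∈ D) (hu1 : u ≠ 1) (hv1 : v ≠ 1) : u = v := by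
  by_contra huv
  apply hAD
  intro x hx
  rcases four hA hu hv hx hu1 hv1 huv (h.sq u) with h1 | h1 | h1 | h1
  · rw [h1]; exact one_mem _
  · rw [h1]; exact huD
  · rw [h1]; exact hvD
  · rw [h1]; exact mul_mem huD hvD

/-- The abstract form of the end of (5b). -/
theorem transitive {Γ : Subgroup (MulAut V)} (h₁ : Y₁ ∈ Γ) (h₂ : Y₂ ∈ Γ) (hB : B ∈ Γ)
    (hK : K ∈ Γ) {D : Subgroup V} (hD : Nat.card D = 8) (hKD : ∀ d ∈ D, K d ∈ D)
    (hBD : ∀ d ∈ D, B d ∈ D) {z : V} (hBz : B z = z) (hodd : Odd (orderOf K))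
    (hKz : ∀ d ∈ D, K d = d → d = 1 ∨ d = z) {x y : V} (hx : x ≠ 1) (hy : y ≠ 1) :
    ∃ g ∈ Γ, g x = y := by
  have hfin : Finite V := Nat.finite_of_card_ne_zero (by rw [h.card]; norm_num)
  obtain ⟨hc₁, hc₂⟩ := h.card_A
  obtain ⟨u, hu, huD, hu1⟩ := h.exists_inf hD hc₁ (fun v hv => h.Y₁₁ hv)
  -- `A₁, A₂` are not contained in `D`
  have hnot : ¬ A₁ Y₁ Y₂ ≤ D ∧ ¬ A₂ Y₁ Y₂ ≤ D := by
    have hiff : A₁ Y₁ Y₂ ≤ D ↔ A₂ Y₁ Y₂ ≤ D := by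
      constructor
      · intro h3 v hv
        have h4 : B⁻¹ v ∈ D := by
          apply h3
          have h6 : B (B v) ∈ A₂ Y₁ Y₂ := h.B₁ (h.B₂ hv)
          -- injectivity and finiteness
          have hsur : Function.Surjective (fun v : A₁ Y₁ Y₂ => (⟨B v, h.B₁ v.2⟩ : A₂ Y₁ Y₂)) := by
            have hinj : Function.Injective
                (fun v : A₁ Y₁ Y₂ => (⟨B v, h.B₁ v.2⟩ : A₂ Y₁ Y₂)) :=
              fun a b hab => Subtype.ext (B.injective (congrArg Subtype.val hab))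
            have hb := (Nat.bijective_iff_injective_and_card _).mpr ⟨hinj, by rw [hc₁, hc₂]⟩
            exact hb.2
          obtain ⟨a, ha⟩ := hsur ⟨v, hv⟩
          have ha' : B a = v := congrArg Subtype.val ha
          rw [← ha', ← MulAut.mul_apply, inv_mul_cancel]
          exact a.2
        have h5 := hBD _ h4
        rwa [← MulAut.mul_apply, mul_inv_cancel] at h5
      · intro h3 v hv
        have h4 : B⁻¹ v ∈ D := by
          apply h3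
          have hsur : Function.Surjective (fun v : A₂ Y₁ Y₂ => (⟨B v, h.B₂ v.2⟩ : A₁ Y₁ Y₂)) := by
            have hinj : Function.Injective
                (fun v : A₂ Y₁ Y₂ => (⟨B v, h.B₂ v.2⟩ : A₁ Y₁ Y₂)) :=
              fun a b hab => Subtype.ext (B.injective (congrArg Subtype.val hab))
            have hb := (Nat.bijective_iff_injective_and_card _).mpr ⟨hinj, by rw [hc₁, hc₂]⟩
            exact hb.2
          obtain ⟨a, ha⟩ := hsur ⟨v, hv⟩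
          have ha' : B a = v := congrArg Subtype.val ha
          rw [← ha', ← MulAut.mul_apply, inv_mul_cancel]
          exact a.2
        have h5 := hBD _ h4
        rwa [← MulAut.mul_apply, mul_inv_cancel] at h5
    have hboth : ¬ (A₁ Y₁ Y₂ ≤ D ∧ A₂ Y₁ Y₂ ≤ D) := by
      rintro ⟨h3, h4⟩
      have h5 : D = ⊤ := by
        rw [eq_top_iff]
        intro v _
        obtain ⟨h6, h7, h8⟩ := h.split v
        rw [h8]
        exact mul_mem (h3 h6) (h4 h7)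
      rw [h5, card_top, h.card] at hD
      norm_num at hD
    exact ⟨fun h3 => hboth ⟨h3, hiff.mp h3⟩, fun h3 => hboth ⟨hiff.mpr h3, h3⟩⟩
  -- `K` does not preserve `A₁ ∪ A₂`
  obtain ⟨v₀, hv₀, hv₀1, hKv₀⟩ : ∃ v, (v ∈ A₁ Y₁ Y₂ ∨ v ∈ A₂ Y₁ Y₂) ∧ v ≠ 1 ∧
      ¬ (K v ∈ A₁ Y₁ Y₂ ∨ K v ∈ A₂ Y₁ Y₂) := by
    by_contra hcon
    push Not at hcon
    have h3 : ∀ v, (v ∈ A₁ Y₁ Y₂ ∨ v ∈ A₂ Y₁ Y₂) → v ≠ 1 → (K v ∈ A₁ Y₁ Y₂ ∨ K v ∈ A₂ Y₁ Y₂) :=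
      hcon
    -- `K²` fixes `u`
    have hne : ∀ v, v ≠ 1 → K v ≠ 1 := fun v hv h4 => hv (K.map_eq_one_iff.mp h4)
    have hKuD := hKD u huD
    have hKu := h3 u (Or.inl hu) hu1
    have hKKu := h3 (K u) hKu (hne u hu1)
    have hfix : K (K u) = u := by
      rcases hKu with h4 | h4
      · have h5 : K u = u := h.unique_inf hc₁ hnot.1 h4 hu hKuD huD (hne u hu1) hu1
        rw [h5, h5]
      · rcases hKKu with h5 | h5
        · exact h.unique_inf hc₁ hnot.1 h5 hu (hKD _ hKuD) huD (hne _ (hne u hu1)) hu1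
        · have h6 : K (K u) = K u :=
            h.unique_inf hc₂ hnot.2 h5 h4 (hKD _ hKuD) hKuD (hne _ (hne u hu1)) (hne u hu1)
          have h7 : K u = u := K.injective h6
          rw [h7, h7]
    have hKu' : K u = u := by
      obtain ⟨k, hk⟩ := hodd
      have h4 : ∀ n : ℕ, ((K * K) ^ n) u = u := by
        intro n
        induction n with
        | zero => rfl
        | succ n ih => rw [pow_succ, MulAut.mul_apply, MulAut.mul_apply, hfix, ih]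
      have h5 : K * (K * K) ^ k = 1 := by
        rw [← pow_two, ← pow_mul, ← pow_succ', ← hk]
        exact pow_orderOf_eq_one K
      calc K u = K (((K * K) ^ k) u) := by rw [h4 k]
        _ = (K * (K * K) ^ k) u := rfl
        _ = u := by rw [h5]; rfl
    rcases hKz u huD hKu' with h4 | h4
    · exact hu1 h4
    · have h5 := h.B₁ hu
      rw [h4, hBz, ← h4] at h5
      have h6 : u ∈ A₁ Y₁ Y₂ ⊓ A₂ Y₁ Y₂ := ⟨hu, h5⟩
      rw [h.inf_eq, mem_bot] at h6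
      exact hu1 h6
  push Not at hKv₀
  -- everything is conjugate to `u`
  have hsix : ∀ v, v ∈ A₁ Y₁ Y₂ → v ≠ 1 → ∃ g ∈ Γ, g v = u := by
    intro v hv hv1
    rcases h.trans hc₁ (fun v hv => h.Y₁₁ hv) hv hu hv1 hu1 with h3 | h3 | h3
    · exact ⟨1, one_mem _, h3.symm⟩
    · exact ⟨Y₁, h₁, h3.symm⟩
    · exact ⟨Y₁ * Y₁, mul_mem h₁ h₁, h3.symm⟩
  have hsix' : ∀ v, (v ∈ A₁ Y₁ Y₂ ∨ v ∈ A₂ Y₁ Y₂) → v ≠ 1 → ∃ g ∈ Γ, g v = u := by
    rintro v (hv | hv) hv1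
    · exact hsix v hv hv1
    · obtain ⟨g, hg, hgv⟩ := hsix (B v) (h.B₂ hv) (fun h3 => hv1 (B.map_eq_one_iff.mp h3))
      exact ⟨g * B, mul_mem hg hB, hgv⟩
  have hall : ∀ v, v ≠ 1 → ∃ g ∈ Γ, g v = u := by
    intro v hv1
    by_cases hv : v ∈ A₁ Y₁ Y₂ ∨ v ∈ A₂ Y₁ Y₂
    · exact hsix' v hv hv1
    · push Not at hv
      obtain ⟨g, hg, hgv⟩ := h.trans_nine h₁ h₂ hv.1 hv.2 hKv₀.1 hKv₀.2
      obtain ⟨f, hf, hfv⟩ := hsix' v₀ hv₀ hv₀1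
      refine ⟨f * K⁻¹ * g, mul_mem (mul_mem hf (inv_mem hK)) hg, ?_⟩
      rw [MulAut.mul_apply, MulAut.mul_apply, hgv]
      have h3 : K⁻¹ (K v₀) = v₀ := by rw [← MulAut.mul_apply, inv_mul_cancel]; rfl
      rw [h3]
      exact hfv
  obtain ⟨g, hg, hgx⟩ := hall x hx
  obtain ⟨f, hf, hfy⟩ := hall y hy
  refine ⟨f⁻¹ * g, mul_mem (inv_mem hf) hg, ?_⟩
  rw [MulAut.mul_apply, hgx, ← hfy, ← MulAut.mul_apply, inv_mul_cancel]
  rfl

/-- `9` divides the order of a group of automorphisms containing `y₁` and `y₂`. -/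
theorem nine_dvd {Γ : Subgroup (MulAut V)} (h₁ : Y₁ ∈ Γ) (h₂ : Y₂ ∈ Γ) : 9 ∣ Nat.card Γ := by
  have hfin : Finite V := Nat.finite_of_card_ne_zero (by rw [h.card]; norm_num)
  obtain ⟨hc₁, hc₂⟩ := h.card_A
  -- `T` and `S`
  obtain ⟨T, hT⟩ : ∃ T, T = Y₁ * Y₂ := ⟨_, rfl⟩
  obtain ⟨S, hS⟩ : ∃ S, S = Y₁ * Y₂ * Y₂ := ⟨_, rfl⟩
  have hT₁ : ∀ v ∈ A₁ Y₁ Y₂, T v = v := by
    intro v hv
    rw [hT, MulAut.mul_apply, mem_A₁.mp hv, map_mul, h.y₁, mul_comm v, h.mul_cancel]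
  have hT₂ : ∀ v ∈ A₂ Y₁ Y₂, T v = Y₁ (Y₁ v) := by
    intro v hv
    rw [hT, MulAut.mul_apply, mem_A₂.mp hv]
  have hS₁ : ∀ v ∈ A₁ Y₁ Y₂, S v = Y₁ (Y₁ v) := by
    intro v hv
    rw [hS, MulAut.mul_apply, MulAut.mul_apply, h.y₂, mem_A₁.mp hv, h.mul_cancel]
  have hS₂ : ∀ v ∈ A₂ Y₁ Y₂, S v = v := by
    intro v hv
    rw [hS, MulAut.mul_apply, MulAut.mul_apply, h.y₂, mem_A₂.mp hv, map_mul, h.y₁, mul_comm v,
      h.mul_cancel]
  have hext : ∀ f g : MulAut V, (∀ v ∈ A₁ Y₁ Y₂, f v = g v) → (∀ v ∈ A₂ Y₁ Y₂, f v = g v) →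
      f = g := by
    intro f g h1 h2
    ext v
    obtain ⟨h3, h4, h5⟩ := h.split v
    calc f v = f (Y₂ v * Y₁ v) * f (Y₂ v * (v * Y₁ v)) := by rw [← map_mul, ← h5]
      _ = g (Y₂ v * Y₁ v) * g (Y₂ v * (v * Y₁ v)) := by rw [h1 _ h3, h2 _ h4]
      _ = g v := by rw [← map_mul, ← h5]
  have hTT : T * S = S * T := by
    apply hext
    · intro v hv
      rw [MulAut.mul_apply, MulAut.mul_apply, hT₁ v hv, hS₁ v hv, hT₁ _ (h.Y₁₁ (h.Y₁₁ hv))]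
    · intro v hv
      rw [MulAut.mul_apply, MulAut.mul_apply, hS₂ v hv, hT₂ v hv, hS₂ _ (h.Y₁₂ (h.Y₁₂ hv))]
  have hT3 : T ^ 3 = 1 := by
    apply hext
    · intro v hv
      rw [pow_succ, pow_two, MulAut.mul_apply, MulAut.mul_apply, hT₁ v hv, hT₁ v hv, hT₁ v hv]
      rfl
    · intro v hv
      rw [pow_succ, pow_two, MulAut.mul_apply, MulAut.mul_apply, hT₂ v hv,
        hT₂ _ (h.Y₁₂ (h.Y₁₂ hv)), hT₂ _ (h.Y₁₂ (h.Y₁₂ (h.Y₁₂ (h.Y₁₂ hv)))), h.cube, h.cube]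
      rfl
  have hS3 : S ^ 3 = 1 := by
    apply hext
    · intro v hv
      rw [pow_succ, pow_two, MulAut.mul_apply, MulAut.mul_apply, hS₁ v hv,
        hS₁ _ (h.Y₁₁ (h.Y₁₁ hv)), hS₁ _ (h.Y₁₁ (h.Y₁₁ (h.Y₁₁ (h.Y₁₁ hv)))), h.cube, h.cube]
      rfl
    · intro v hv
      rw [pow_succ, pow_two, MulAut.mul_apply, MulAut.mul_apply, hS₂ v hv, hS₂ v hv, hS₂ v hv]
      rfl
  have hne : ∀ A : Subgroup V, Nat.card A = 4 → ∃ a ∈ A, a ≠ 1 := by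
    intro A hA
    have h1 : A ≠ ⊥ := by
      intro h1
      rw [h1, card_bot] at hA
      norm_num at hA
    obtain ⟨a, ha⟩ := Subgroup.ne_bot_iff_exists_ne_one.mp h1
    exact ⟨a, a.2, fun h2 => ha (Subtype.ext h2)⟩
  have hYY : ∀ a : V, a ≠ 1 → Y₁ (Y₁ a) ≠ a := by
    intro a ha h1
    apply ha
    apply h.f₁
    have h2 := h.cube a
    rw [h1] at h2
    exact h2
  have hTo : orderOf T = 3 := by
    refine orderOf_eq_prime hT3 ?_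
    intro h1
    obtain ⟨a, ha, ha1⟩ := hne _ hc₂
    have h2 := hT₂ a ha
    rw [h1] at h2
    exact hYY a ha1 h2.symm
  have hSo : orderOf S = 3 := by
    refine orderOf_eq_prime hS3 ?_
    intro h1
    obtain ⟨a, ha, ha1⟩ := hne _ hc₁
    have h2 := hS₁ a ha
    rw [h1] at h2
    exact hYY a ha1 h2.symm
  have hd : zpowers T ⊓ zpowers S = ⊥ := by
    rw [eq_bot_iff]
    rintro g ⟨⟨i, rfl⟩, ⟨j, hj⟩⟩
    rw [mem_bot]
    have hfixT : ∀ v ∈ A₁ Y₁ Y₂, ∀ i : ℤ, (T ^ i) v = v := by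
      intro v hv i
      have : T ∈ (MulAction.stabilizer (MulAut V) v) := hT₁ v hv
      exact (zpow_mem this i : T ^ i ∈ MulAction.stabilizer (MulAut V) v)
    have hfixS : ∀ v ∈ A₂ Y₁ Y₂, ∀ i : ℤ, (S ^ i) v = v := by
      intro v hv i
      have : S ∈ (MulAction.stabilizer (MulAut V) v) := hS₂ v hv
      exact (zpow_mem this i : S ^ i ∈ MulAction.stabilizer (MulAut V) v)
    apply hext
    · intro v hv
      exact hfixT v hv i
    · intro v hv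
      have hj' : S ^ j = T ^ i := hj
      have := hfixS v hv j
      rw [hj'] at this
      exact this
  have hsup : Nat.card ↥(zpowers T ⊔ zpowers S) = 9 := by
    have h1 : ((zpowers T ⊔ zpowers S : Subgroup (MulAut V)) : Set (MulAut V)) =
        (zpowers T : Set (MulAut V)) * (zpowers S : Set (MulAut V)) := by
      apply Subgroup.coe_mul_of_left_le_normalizer_right
      refine le_trans ?_ (centralizer_le_normalizer _)
      rw [zpowers_le, mem_centralizer_iff]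
      rintro _ ⟨i, rfl⟩
      exact ((show Commute T S from hTT).symm.zpow_left i).eq
    have h2 := Cfsg.Agent.Lib.ProductSet.card_mul_card_inf (zpowers T) (zpowers S)
    rw [hd, card_bot, mul_one, ← h1, Nat.card_zpowers, Nat.card_zpowers, hTo, hSo] at h2
    exact h2
  rw [← hsup]
  exact card_dvd_of_le (sup_le (zpowers_le.mpr (hT ▸ mul_mem h₁ h₂))
    (zpowers_le.mpr (hS ▸ mul_mem (mul_mem h₁ h₂) h₂)))

end Dat

end Abstract

/-- An automorphism of order three without fixed points. -/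
theorem sq_eq {V : Type*} [CommGroup V] (hsq : ∀ v : V, v * v = 1) {Y : MulAut V}
    (h3 : Y ^ 3 = 1) (hf : ∀ v, Y v = v → v = 1) (v : V) : Y (Y v) = v * Y v := by
  have h3' : ∀ v, Y (Y (Y v)) = v := fun v => by
    have h : (Y ^ 3) v = v := by rw [h3]; rfl
    rwa [pow_succ, pow_two, MulAut.mul_apply, MulAut.mul_apply] at h
  have h1 : v * Y v * Y (Y v) = 1 := by
    apply hf
    rw [map_mul, map_mul, h3']
    simp only [mul_comm, mul_left_comm]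
  have h2 : v * Y v * (v * Y v) = 1 := hsq _
  exact mul_left_cancel (h1.trans h2.symm)

variable {G : Type*} [Group G]

/-- **Step (5b), the end.** -/
theorem false_of_kappa [Finite G] {P V V₀ Z₀ B : Subgroup G} {z b c y₁ y₂ : G}
    (hsol : Group.IsSolvable ↥(normalizer (V : Set G)))
    (hVP : P ≤ normalizer (V : Set G)) (Vcomm : ∀ v ∈ V, ∀ w ∈ V, v * w = w * v)
    (Vsq : ∀ v ∈ V, v * v = 1) (pd : PD P V V₀ Z₀ B z b c y₁ y₂) (V₀_le : V₀ ≤ V)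
    (bV : b ∈ normalizer (V : Set G)) (bV₀ : ∀ d ∈ V₀, b * d * b⁻¹ ∈ V₀)
    (bz : b * z * b⁻¹ = z) (zV : z ∈ V) {κ : G} (κV : κ ∈ normalizer (V : Set G))
    (κV₀ : ∀ d ∈ V₀, κ * d * κ⁻¹ ∈ V₀) (hodd : Odd (orderOf κ))
    (hκ : ∀ d ∈ V₀, κ * d * κ⁻¹ = d → d ∈ Z₀) : False := by
  classical
  set N := normalizer (V : Set G) with hN
  have hVN : V ≤ N := le_normalizer
  let V' : Subgroup N := V.subgroupOf N
  have hV'n : V'.Normal := Subgroup.normal_subgroupOf_of_le_normalizer le_rfl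
  let _ : CommGroup V' :=
    { (inferInstance : Group V') with
      mul_comm := fun x y => Subtype.ext (Subtype.ext (Vcomm x x.2 y y.2)) }
  let φ : N →* MulAut V' := MulAut.conjNormal
  have hφ : ∀ (g : N) (v : V'), (((φ g v : V') : N) : G) = g * v * (g : G)⁻¹ := fun g v => rfl
  have hφ1 : ∀ g : N, (g : G) ∈ centralizer (V : Set G) → φ g = 1 := by
    intro g hg
    ext v
    rw [hφ]
    have h1 := mem_centralizer_iff.mp hg v v.2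
    rw [← h1, mul_inv_cancel_right]
    rfl
  have hsq : ∀ v : V', v * v = 1 := fun v => Subtype.ext (Subtype.ext (Vsq v v.2))
  have hcard : Nat.card V' = 16 := by
    rw [← pd.cardV]
    exact Nat.card_congr (subgroupOfEquivOfLe hVN).toEquiv
  let g₁ : N := ⟨y₁, hVP pd.y₁P⟩
  let g₂ : N := ⟨y₂, hVP pd.y₂P⟩
  let gb : N := ⟨b, bV⟩
  let gk : N := ⟨κ, κV⟩
  have e1 : φ g₁ ^ 3 = 1 := by rw [← map_pow]; exact hφ1 _ pd.y₁_cube
  have e2 : φ g₂ ^ 3 = 1 := by rw [← map_pow]; exact hφ1 _ pd.y₂_cube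
  have e3 : φ g₁ * φ g₂ * (φ g₁)⁻¹ * (φ g₂)⁻¹ = 1 := by
    rw [← map_inv, ← map_inv, ← map_mul, ← map_mul, ← map_mul]
    exact hφ1 _ pd.y₁y₂
  have e4 : φ gb * φ g₁ * (φ gb)⁻¹ * φ g₁ = 1 := by
    rw [← map_inv, ← map_mul, ← map_mul, ← map_mul]
    exact hφ1 _ pd.by₁
  have e5 : φ gb * φ g₂ * (φ gb)⁻¹ * (φ g₂)⁻¹ = 1 := by
    rw [← map_inv, ← map_inv, ← map_mul, ← map_mul, ← map_mul]
    exact hφ1 _ pd.by₂
  have f1 : ∀ v : V', φ g₁ v = v → v = 1 := by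
    intro v hv
    have h1 : y₁ * v * y₁⁻¹ = (v : G) := congrArg (fun w : V' => ((w : N) : G)) hv
    exact Subtype.ext (Subtype.ext (pd.fpf₁ v v.2 h1))
  have f2 : ∀ v : V', φ g₂ v = v → v = 1 := by
    intro v hv
    have h1 : y₂ * v * y₂⁻¹ = (v : G) := congrArg (fun w : V' => ((w : N) : G)) hv
    exact Subtype.ext (Subtype.ext (pd.fpf₂ v v.2 h1))
  have dat : Dat (φ g₁) (φ g₂) (φ gb) := by
    refine ⟨hcard, hsq, sq_eq hsq e1 f1, sq_eq hsq e2 f2, ?_, f1, ?_, ?_⟩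
    · intro v
      have h1 : φ g₂ * φ g₁ = φ g₁ * φ g₂ := by
        rw [mul_inv_eq_one, mul_inv_eq_iff_eq_mul] at e3
        exact e3.symm
      calc φ g₂ (φ g₁ v) = (φ g₂ * φ g₁) v := rfl
        _ = _ := by rw [h1]; rfl
    · intro v
      rw [mul_comm (φ gb v), mul_comm, ← sq_eq hsq e1 f1]
      have h1 : φ gb * φ g₁ = φ g₁ * φ g₁ * φ gb := by
        have h2 : φ g₁ * φ g₁ = (φ g₁)⁻¹ := by
          rw [eq_inv_iff_mul_eq_one, ← pow_two, ← pow_succ]; exact e1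
        rw [h2, ← mul_inv_eq_iff_eq_mul, eq_inv_iff_mul_eq_one]
        exact e4
      calc φ gb (φ g₁ v) = (φ gb * φ g₁) v := rfl
        _ = _ := by rw [h1]; rfl
    · intro v
      have h1 : φ gb * φ g₂ = φ g₂ * φ gb := by
        rw [mul_inv_eq_one, mul_inv_eq_iff_eq_mul] at e5
        exact e5
      calc φ gb (φ g₂ v) = (φ gb * φ g₂) v := rfl
        _ = _ := by rw [h1]; rfl
  -- `V₀`
  let D : Subgroup V' := (V₀.subgroupOf N).subgroupOf V'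
  have hDcard : Nat.card D = 8 := by
    rw [← pd.cardV₀]
    have h1 : V₀.subgroupOf N ≤ V' := fun x hx => V₀_le hx
    rw [Nat.card_congr (subgroupOfEquivOfLe h1).toEquiv]
    exact Nat.card_congr (subgroupOfEquivOfLe (V₀_le.trans hVN)).toEquiv
  have htr : ∀ {x y : V'}, x ≠ 1 → y ≠ 1 → ∃ g ∈ φ.range, g x = y :=
    fun {x y} hx hy => dat.transitive (x := x) (y := y) (K := φ gk) (Γ := φ.range) ⟨g₁, rfl⟩ ⟨g₂, rfl⟩ ⟨gb, rfl⟩ ⟨gk, rfl⟩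
    hDcard (fun d hd => κV₀ d hd) (fun d hd => bV₀ d hd)
    (z := ⟨⟨z, hVN zV⟩, zV⟩) (Subtype.ext (Subtype.ext bz))
    (by
      refine hodd.of_dvd_nat ?_
      have h1 : orderOf (φ gk) ∣ orderOf gk := orderOf_map_dvd φ gk
      have h2 : orderOf gk = orderOf κ := (orderOf_injective N.subtype N.subtype_injective gk).symm
      rwa [h2] at h1)
    (by
      intro d hd hdk
      have h1 : κ * d * κ⁻¹ = (d : G) := congrArg (fun w : V' => ((w : N) : G)) hdk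
      rcases (pd.Z₀_eq d).mp (hκ d hd h1) with h2 | h2
      · exact Or.inl (Subtype.ext (Subtype.ext h2))
      · exact Or.inr (Subtype.ext (Subtype.ext h2))) hx hy
  have hker : φ.ker = centralizer (V' : Set N) := by
    ext h
    rw [MonoidHom.mem_ker, mem_centralizer_iff]
    constructor
    · intro hh v hv
      have h1 : φ h ⟨v, hv⟩ = ⟨v, hv⟩ := by rw [hh]; rfl
      have h2 : h * v * h⁻¹ = v := congrArg Subtype.val h1
      rw [mul_inv_eq_iff_eq_mul] at h2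
      exact h2.symm
    · intro hh
      ext v
      rw [hφ]
      have h1 : (v : N) * h = h * v := hh v v.2
      have h2 : (v : G) * h = h * v := congrArg Subtype.val h1
      rw [← h2, mul_inv_cancel_right]
      rfl
  refine GL42.false_of_transitive hsol V' hV'n hcard (fun x hx y hy => ?_) (fun x hx => ?_) ?_ ?_
  · exact Subtype.ext (Vcomm x hx y hy)
  · exact Subtype.ext (Vsq x hx)
  · rw [← hker, Subgroup.index_ker]
    exact dat.nine_dvd ⟨g₁, rfl⟩ ⟨g₂, rfl⟩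
  · intro x hx y hy hx1 hy1
    obtain ⟨_, ⟨h, rfl⟩, hh⟩ := htr (x := ⟨x, hx⟩) (y := ⟨y, hy⟩)
      (fun h1 => hx1 (congrArg Subtype.val h1)) (fun h1 => hy1 (congrArg Subtype.val h1))
    exact ⟨h, congrArg Subtype.val hh⟩

end Cfsg.Agent.MinSimple.CaseD.KappaEnd
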